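import Cfsg.Agent.Lib.Perm.NormalSubgroups
import Cfsg.Agent.EqLemmas

/-!
Orbits of the two-point stabilisers of a subgroup.

* `Joined`, `TwoOrb`
* `card_two_point_eq`, `card_point_eq` : orders
-/

set_option autoImplicit false
set_option linter.style.haveILetI false
set_option linter.unusedSectionVars false

namespace Cfsg.Agent.TriplyNormal

open MulAction

variable {G : Type*} [Group G] {Ω : Type*} [MulAction G Ω]

/-- An element of `N` fixing `a` and `b` maps `c` to `d`. -/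
def Joined (N : Subgroup G) (a b c d : Ω) : Prop :=
  ∃ g ∈ N, g • a = a ∧ g • b = b ∧ g • c = d

/-- Among three points other than `a`, `b`, two are in one orbit of `N_ab`. -/
def TwoOrb (N : Subgroup G) (a b : Ω) : Prop :=
  ∀ c d e : Ω, c ≠ a → c ≠ b → d ≠ a → d ≠ b → e ≠ a → e ≠ b →
    Joined N a b c d ∨ Joined N a b c e ∨ Joined N a b d e

variable {N : Subgroup G} {a b c d e : Ω}

theorem Joined.refl (N : Subgroup G) (a b c : Ω) : Joined N a b c c :=
  ⟨1, one_mem N, one_smul G a, one_smul G b, one_smul G c⟩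

theorem Joined.symm (h : Joined N a b c d) : Joined N a b d c := by
  obtain ⟨g, hg, h1, h2, h3⟩ := h
  exact ⟨g⁻¹, inv_mem hg, inv_smul_eq_iff.2 h1.symm, inv_smul_eq_iff.2 h2.symm,
    inv_smul_eq_iff.2 h3.symm⟩

theorem Joined.trans (h : Joined N a b c d) (h' : Joined N a b d e) : Joined N a b c e := by
  obtain ⟨g, hg, h1, h2, h3⟩ := h
  obtain ⟨g', hg', h1', h2', h3'⟩ := h'
  exact ⟨g' * g, mul_mem hg' hg, by rw [mul_smul, h1, h1'], by rw [mul_smul, h2, h2'],
    by rw [mul_smul, h3, h3']⟩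

theorem Joined.mono {M : Subgroup G} (hMN : M ≤ N) (h : Joined M a b c d) : Joined N a b c d := by
  obtain ⟨g, hg, h'⟩ := h
  exact ⟨g, hMN hg, h'⟩

theorem TwoOrb.mono {M : Subgroup G} (hMN : M ≤ N) (h : TwoOrb M a b) : TwoOrb N a b :=
  fun c d e hca hcb hda hdb hea heb =>
    (h c d e hca hcb hda hdb hea heb).imp (Joined.mono hMN) (Or.imp (Joined.mono hMN) (Joined.mono hMN))

theorem twoOrb_of_transitive
    (h : ∀ c d : Ω, c ≠ a → c ≠ b → d ≠ a → d ≠ b → Joined N a b c d) : TwoOrb N a b :=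
  fun c d _ hca hcb hda hdb _ _ => Or.inl (h c d hca hcb hda hdb)

/-- In a 2-transitive `N` all two-point stabilisers have the same order. -/
theorem card_two_point_eq (hN2 : IsMultiplyPretransitive N Ω 2) (hab : a ≠ b) (hcd : c ≠ d) :
    Nat.card ↥(N ⊓ stabilizer G c ⊓ stabilizer G d) = Nat.card ↥(N ⊓ stabilizer G a ⊓ stabilizer G b) := by
  obtain ⟨⟨k, hk⟩, hka, hkb⟩ := is_two_pretransitive_iff.mp hN2 hab hcd
  rw [Subgroup.mk_smul] at hka hkb
  symm
  refine Nat.card_congr ((Subgroup.equivMapOfInjective _ (MulAut.conj k).toMonoidHom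
    (MulAut.conj k).injective).toEquiv.trans (Equiv.setCongr ?_))
  ext x
  constructor
  · rintro ⟨g, ⟨⟨hgN, hga⟩, hgb⟩, rfl⟩
    refine ⟨⟨N.mul_mem (N.mul_mem hk hgN) (N.inv_mem hk), ?_⟩, ?_⟩
    · show (k * g * k⁻¹) • c = c
      rw [mul_smul, mul_smul, inv_smul_eq_iff.2 hka.symm, (hga : g • a = a), hka]
    · show (k * g * k⁻¹) • d = d
      rw [mul_smul, mul_smul, inv_smul_eq_iff.2 hkb.symm, (hgb : g • b = b), hkb]
  · rintro ⟨⟨hxN, hxc⟩, hxd⟩
    refine ⟨k⁻¹ * x * k, ⟨⟨N.mul_mem (N.mul_mem (N.inv_mem hk) hxN) hk, ?_⟩, ?_⟩, by simp [mul_assoc]⟩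
    · show (k⁻¹ * x * k) • a = a
      rw [mul_smul, mul_smul, hka, (hxc : x • c = c), inv_smul_eq_iff.2 hka.symm]
    · show (k⁻¹ * x * k) • b = b
      rw [mul_smul, mul_smul, hkb, (hxd : x • d = d), inv_smul_eq_iff.2 hkb.symm]

theorem transitive_point (hN2 : IsMultiplyPretransitive N Ω 2) {x y : Ω} (hx : x ≠ a) (hy : y ≠ a) :
    ∃ g ∈ N ⊓ stabilizer G a, g • x = y := by
  obtain ⟨⟨k, hk⟩, hka, hkx⟩ := is_two_pretransitive_iff.mp hN2 hx.symm hy.symm
  exact ⟨k, ⟨hk, hka⟩, hkx⟩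

theorem card_point_eq [Finite Ω] (hN2 : IsMultiplyPretransitive N Ω 2) (hab : a ≠ b) :
    Nat.card ↥(N ⊓ stabilizer G a) =
      (Nat.card Ω - 1) * Nat.card ↥(N ⊓ stabilizer G a ⊓ stabilizer G b) := by
  set K := N ⊓ stabilizer G a
  have horb : orbit K b = ({a}ᶜ : Set Ω) := by
    ext x
    constructor
    · rintro ⟨g, rfl⟩ (h : (g : G) • b = a)
      exact hab.symm (MulAction.injective (g : G) (h.trans (g.2.2 : (g : G) • a = a).symm))
    · intro hx
      obtain ⟨g, hg, hgb⟩ := transitive_point hN2 hab.symm (y := x) hx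
      exact ⟨⟨g, hg⟩, hgb⟩
  have hst : Nat.card (stabilizer K b) = Nat.card ↥(K ⊓ stabilizer G b) :=
    Nat.card_congr
      { toFun := fun g => ⟨g.1.1, g.1.2, g.2⟩
        invFun := fun g => ⟨⟨g.1, g.2.1⟩, g.2.2⟩
        left_inv := fun _ => rfl
        right_inv := fun _ => rfl }
  rw [← Subgroup.card_mul_index (stabilizer K b), index_stabilizer, horb, Set.ncard_compl,
    Set.ncard_singleton, hst, mul_comm]

end Cfsg.Agent.TriplyNormal
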