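import Cfsg.Agent.EqLemmas
import Mathlib.RingTheory.IntegralDomain
import Mathlib.Combinatorics.Enumerative.DoubleCounting
import Mathlib.LinearAlgebra.Dimension.StrongRankCondition
import Mathlib.GroupTheory.PGroup
import Mathlib.Algebra.Module.ZMod
import Mathlib.LinearAlgebra.Dimension.Finite
import Mathlib.Algebra.Field.ZMod

/-!
Representations of an elementary abelian `2`-group in odd characteristic.

* `card_sub_one_le_finrank` : if elements normalising `A` are transitive on `A \ {1}` and `A` acts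
  non-trivially, then the dimension is at least `|A| - 1`
-/

set_option autoImplicit false
set_option linter.style.haveILetI false

namespace Cfsg.Agent.TriplyNormal

open Module

variable {p : ℕ} [hp : Fact p.Prime] {V : Type*} [AddCommGroup V] [Module (ZMod p) V] [Finite V]
  {H : Type*} [Group H]

theorem pm_one_of_sq {R : Type*} [CommRing R] [NoZeroDivisors R] {A : Type*} [Group A]
    (χ : A →* R) {a : A} (h : a * a = 1) : χ a = 1 ∨ χ a = -1 := by
  have := map_mul χ a a
  rw [h, map_one] at this
  exact mul_self_eq_one_iff.1 this.symm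

theorem two_mul_card_neg {R : Type*} [CommRing R] [NoZeroDivisors R] [DecidableEq R] (h21 : (1 : R) ≠ -1)
    {A : Type*} [Group A] [Fintype A] (h2 : ∀ a : A, a * a = 1) (χ : A →* R) (hχ : χ ≠ 1) :
    2 * (Finset.univ.filter fun a => χ a = -1).card = Fintype.card A := by
  classical
  obtain ⟨a0, ha0⟩ : ∃ a, χ a = -1 := by
    by_contra hcon
    push Not at hcon
    exact hχ (MonoidHom.ext fun a => (pm_one_of_sq χ (h2 a)).resolve_right (hcon a))
  have hswap : (Finset.univ.filter fun a => ¬ χ a = -1).card =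
      (Finset.univ.filter fun a => χ a = -1).card := by
    refine Finset.card_nbij' (fun a => a0 * a) (fun a => a0 * a) ?_ ?_ ?_ ?_
    · intro a ha
      simp only [Finset.coe_filter, Finset.mem_univ, true_and, Set.mem_ofPred_eq] at ha ⊢
      rw [map_mul, ha0, (pm_one_of_sq χ (h2 a)).resolve_right ha, mul_one]
    · intro a ha
      simp only [Finset.coe_filter, Finset.mem_univ, true_and, Set.mem_ofPred_eq] at ha ⊢
      rw [map_mul, ha0, ha, neg_one_mul, neg_neg]
      exact h21
    · intro a _
      show a0 * (a0 * a) = a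
      rw [← mul_assoc, h2, one_mul]
    · intro a _
      show a0 * (a0 * a) = a
      rw [← mul_assoc, h2, one_mul]
  have h := Finset.card_filter_add_card_filter_not (s := (Finset.univ : Finset A)) (fun a => χ a = -1)
  rw [Finset.card_univ] at h
  omega

/-- A commutative group of exponent two acting non-trivially has a non-trivial eigencharacter. -/
theorem exists_character (hp2 : p ≠ 2) (ρ : H →* Module.End (ZMod p) V) (A : Subgroup H)
    (h2 : ∀ a ∈ A, a * a = 1) {a0 : H} (ha0 : a0 ∈ A) (hne : ρ a0 ≠ 1) :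
    ∃ χ : A →* ZMod p, χ ≠ 1 ∧ ∃ v : V, v ≠ 0 ∧ ∀ a : A, ρ (a : H) v = χ a • v := by
  classical
  have hcomm : ∀ a ∈ A, ∀ b ∈ A, a * b = b * a := by
    intro a ha b hb
    have hi : ∀ x ∈ A, x⁻¹ = x := fun x hx => inv_eq_of_mul_eq_one_right (h2 x hx)
    have := hi _ (mul_mem ha hb)
    rw [mul_inv_rev, hi a ha, hi b hb] at this
    exact this.symm
  have hsq : ∀ a ∈ A, ∀ v, ρ a (ρ a v) = v := fun a ha v => by
    rw [← Module.End.mul_apply, ← map_mul, h2 a ha, map_one, Module.End.one_apply]
  have hcm : ∀ a ∈ A, ∀ b ∈ A, ∀ v, ρ a (ρ b v) = ρ b (ρ a v) := fun a ha b hb v => by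
    rw [← Module.End.mul_apply, ← map_mul, hcomm a ha b hb, map_mul, Module.End.mul_apply]
  let P : Submodule (ZMod p) V → Prop := fun W =>
    W ≠ ⊥ ∧ (∀ a ∈ A, ∀ w ∈ W, ρ a w ∈ W) ∧ ∀ w ∈ W, ρ a0 w = -w
  have hP0 : P (LinearMap.range (ρ a0 - 1)) := by
    refine ⟨?_, ?_, ?_⟩
    · rw [Ne, LinearMap.range_eq_bot, sub_eq_zero]
      exact hne
    · rintro a ha _ ⟨v, rfl⟩
      exact ⟨ρ a v, by
        simp only [LinearMap.sub_apply, Module.End.one_apply, map_sub]
        rw [hcm a ha a0 ha0]⟩
    · rintro _ ⟨v, rfl⟩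
      simp only [LinearMap.sub_apply, Module.End.one_apply, map_sub, hsq a0 ha0]
      abel
  obtain ⟨W, hW, hmin⟩ := Set.exists_min_image {W | P W} (fun W : Submodule (ZMod p) V => Nat.card W)
    (Set.toFinite _) ⟨_, hP0⟩
  obtain ⟨hW0, hWi, hWn⟩ := hW
  obtain ⟨v, hvW, hv0⟩ := Submodule.exists_mem_ne_zero_of_ne_bot hW0
  have hsc : ∀ a : A, ∃ c : ZMod p, ρ (a : H) v = c • v := by
    rintro ⟨b, hb⟩
    by_cases hfix : ∀ w ∈ W, ρ b w = w
    · exact ⟨1, by rw [one_smul]; exact hfix v hvW⟩
    · refine ⟨-1, ?_⟩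
      push Not at hfix
      obtain ⟨w0, hw0, hw0'⟩ := hfix
      have hW' : P (W.map (ρ b - 1)) := by
        refine ⟨fun h => hw0' (sub_eq_zero.1 ?_), ?_, ?_⟩
        · have hm : (ρ b - 1) w0 ∈ W.map (ρ b - 1) := Submodule.mem_map_of_mem hw0
          rw [h, Submodule.mem_bot] at hm
          exact hm
        · rintro a ha _ ⟨w, hw, rfl⟩
          exact ⟨ρ a w, hWi a ha w hw, by
            simp only [LinearMap.sub_apply, Module.End.one_apply, map_sub]
            rw [hcm a ha b hb]⟩
        · rintro _ ⟨w, hw, rfl⟩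
          refine hWn _ ?_
          simp only [LinearMap.sub_apply, Module.End.one_apply]
          exact W.sub_mem (hWi b hb w hw) hw
      have hle : W.map (ρ b - 1) ≤ W := by
        rintro _ ⟨w, hw, rfl⟩
        simp only [LinearMap.sub_apply, Module.End.one_apply]
        exact W.sub_mem (hWi b hb w hw) hw
      have heq : W.map (ρ b - 1) = W := SetLike.coe_injective
        (Set.eq_of_subset_of_ncard_le hle (by
          rw [← Nat.card_coe_set_eq, ← Nat.card_coe_set_eq]
          exact hmin _ hW') (Set.toFinite _))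
      obtain ⟨w, hw, hwv⟩ := (Submodule.ext_iff.1 heq v).2 hvW
      rw [neg_one_smul, ← hwv]
      simp only [LinearMap.sub_apply, Module.End.one_apply, map_sub, hsq b hb]
      abel
  choose c hc using hsc
  have hone : c 1 = 1 := smul_left_injective (ZMod p) hv0 (by
    show c 1 • v = (1 : ZMod p) • v
    rw [← hc, one_smul, OneMemClass.coe_one, map_one, Module.End.one_apply])
  have hmul : ∀ a b : A, c (a * b) = c a * c b := fun a b => smul_left_injective (ZMod p) hv0 (by
    show c (a * b) • v = (c a * c b) • v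
    rw [← hc, Subgroup.coe_mul, map_mul, Module.End.mul_apply, hc b, map_smul, hc a, smul_smul,
      mul_comm])
  refine ⟨{ toFun := c, map_one' := hone, map_mul' := hmul }, fun h => ?_, v, hv0, hc⟩
  have h1 : c ⟨a0, ha0⟩ = 1 := DFunLike.congr_fun h ⟨a0, ha0⟩
  have h3 := hc ⟨a0, ha0⟩
  rw [h1, one_smul] at h3
  have h4 : (2 : ZMod p) • v = 0 := by
    rw [two_smul]
    nth_rewrite 1 [← h3]
    rw [hWn v hvW]
    abel
  refine hv0 ((smul_eq_zero.1 h4).resolve_left ?_)
  exact Ring.two_ne_zero (by rw [ZMod.ringChar_zmod_n]; exact hp2)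

/-- If elements normalising the elementary abelian `2`-group `A` are transitive on its involutions
and `A` acts non-trivially, the dimension is at least `|A| - 1`. -/
theorem card_sub_one_le_finrank (hp2 : p ≠ 2) (ρ : H →* Module.End (ZMod p) V) (A : Subgroup H)
    [Finite A] (h2 : ∀ a ∈ A, a * a = 1)
    (htr : ∀ a ∈ A, ∀ b ∈ A, a ≠ 1 → b ≠ 1 → ∃ h : H, h * a * h⁻¹ = b ∧ ∀ c ∈ A, h * c * h⁻¹ ∈ A)
    (hnt : ∃ a ∈ A, ρ a ≠ 1) :
    Nat.card A - 1 ≤ finrank (ZMod p) V := by
  classical
  haveI := Fintype.ofFinite A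
  haveI : Fact (Nat.Prime 2) := ⟨Nat.prime_two⟩
  have h21 : (1 : ZMod p) ≠ -1 := (Ring.neg_one_ne_one_of_char_ne_two
    (by rw [ZMod.ringChar_zmod_n]; exact hp2)).symm
  haveI : Fintype (A →* ZMod p) :=
    @Fintype.ofFinite _ (Finite.of_injective (fun f : A →* ZMod p => (f : A → ZMod p))
      DFunLike.coe_injective)
  let Φ : Finset (A →* ZMod p) := Finset.univ.filter fun χ => χ ≠ 1 ∧
    ∃ v : V, v ≠ 0 ∧ ∀ a : A, ρ (a : H) v = χ a • v
  have hne : Φ.Nonempty := by
    obtain ⟨a0, ha0, h0⟩ := hnt
    obtain ⟨χ, hχ⟩ := exists_character hp2 ρ A h2 ha0 h0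
    exact ⟨χ, Finset.mem_filter.2 ⟨Finset.mem_univ _, hχ⟩⟩
  have h2' : ∀ a : A, a * a = 1 := fun a => Subtype.ext (h2 a a.2)
  set q := Fintype.card A with hq
  -- the eigencharacters are permuted transitively enough
  have hmono : ∀ a b : A, a ≠ 1 → b ≠ 1 →
      (Φ.filter fun χ => χ a = -1).card ≤ (Φ.filter fun χ => χ b = -1).card := by
    intro a b ha hb
    obtain ⟨h, hab, hnorm⟩ := htr b b.2 a a.2 (fun e => hb (Subtype.ext e))
      (fun e => ha (Subtype.ext e))
    let f : A →* A :=
      { toFun := fun c => ⟨h * c * h⁻¹, hnorm c c.2⟩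
        map_one' := Subtype.ext (by simp)
        map_mul' := fun x y => Subtype.ext (by simp [mul_assoc]) }
    have hinj : Function.Injective f := fun x y e => Subtype.ext (by
      have := congrArg Subtype.val e
      simpa [f] using this)
    have hsurj : Function.Surjective f := Finite.surjective_of_injective hinj
    refine Finset.card_le_card_of_injOn (fun χ => χ.comp f) ?_ ?_
    · intro χ hχ
      simp only [Φ, Finset.coe_filter, Finset.mem_filter, Finset.mem_univ, true_and,
        Set.mem_ofPred_eq] at hχ ⊢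
      obtain ⟨⟨hχ1, v, hv0, hv⟩, hχa⟩ := hχ
      refine ⟨⟨fun e => hχ1 (MonoidHom.ext fun c => ?_), ρ h⁻¹ v, fun e => hv0 ?_, fun c => ?_⟩, ?_⟩
      · obtain ⟨d, rfl⟩ := hsurj c
        exact DFunLike.congr_fun e d
      · have := congrArg (ρ h) e
        rwa [map_zero, ← Module.End.mul_apply, ← map_mul, mul_inv_cancel, map_one,
          Module.End.one_apply] at this
      · have hc : ρ ((f c : A) : H) v = χ (f c) • v := hv _
        show ρ (c : H) (ρ h⁻¹ v) = χ (f c) • ρ h⁻¹ v
        rw [← map_smul, ← hc, ← Module.End.mul_apply, ← map_mul, ← Module.End.mul_apply, ← map_mul]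
        congr 2
        show (c : H) * h⁻¹ = h⁻¹ * (h * c * h⁻¹)
        group
      · show χ (f b) = -1
        rw [show f b = a from Subtype.ext hab]
        exact hχa
    · intro χ _ ψ _ e
      refine MonoidHom.ext fun c => ?_
      obtain ⟨d, rfl⟩ := hsurj c
      exact DFunLike.congr_fun e d
  obtain ⟨a1, ha1⟩ : ∃ a : A, a ≠ 1 := by
    obtain ⟨a0, ha0, h0⟩ := hnt
    exact ⟨⟨a0, ha0⟩, fun e => h0 (by rw [show a0 = 1 from congrArg Subtype.val e, map_one])⟩
  set c := (Φ.filter fun χ => χ a1 = -1).card with hc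
  have hcount := Finset.card_mul_eq_card_mul (s := Φ)
    (t := (Finset.univ : Finset A).erase 1) (fun χ a => χ a = -1) (m := q / 2) (n := c)
    (fun χ hχ => by
      have h := two_mul_card_neg h21 h2' χ (Finset.mem_filter.1 hχ).2.1
      rw [← hq] at h
      have he : (Finset.univ.erase (1 : A)).bipartiteAbove (fun χ a => χ a = -1) χ =
          Finset.univ.filter fun a => χ a = -1 := by
        ext a
        simp only [Finset.mem_bipartiteAbove, Finset.mem_erase, Finset.mem_univ, and_true,
          Finset.mem_filter, true_and, and_iff_right_iff_imp]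
        rintro h' rfl
        exact h21 (by rw [← h', map_one])
      rw [he]
      omega)
    (fun a ha => le_antisymm (hmono a a1 (Finset.ne_of_mem_erase ha) ha1)
      (hmono a1 a ha1 (Finset.ne_of_mem_erase ha)))
  rw [Finset.card_erase_of_mem (Finset.mem_univ _), Finset.card_univ, ← hq] at hcount
  -- independence of eigenvectors
  have hle : Φ.card ≤ finrank (ZMod p) V := by
    have hv : ∀ χ : Φ, ∃ v : V, v ≠ 0 ∧ ∀ a : A, ρ (a : H) v = χ.1 a • v :=
      fun χ => (Finset.mem_filter.1 χ.2).2.2
    choose v hv0 hv using hv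
    have hqne : (q : ZMod p) ≠ 0 := by
      obtain ⟨k, hk⟩ := IsPGroup.iff_card.1
        (show IsPGroup 2 A from fun x => ⟨1, by rw [pow_one, pow_two]; exact h2' x⟩)
      rw [Ne, ZMod.natCast_eq_zero_iff, hq, ← Nat.card_eq_fintype_card, hk]
      intro hd
      exact hp2 ((Nat.prime_dvd_prime_iff_eq hp.out Nat.prime_two).1 (hp.out.dvd_of_dvd_pow hd))
    have hli : LinearIndependent (ZMod p) v := by
      rw [Fintype.linearIndependent_iff]
      intro g hg i
      have happ : ∀ a : A, ∑ j, (g j * (i.1 a * j.1 a)) • v j = 0 := by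
        intro a
        have := congrArg (fun w => i.1 a • ρ (a : H) w) hg
        simp only [map_sum, map_smul, Finset.smul_sum, smul_zero, map_zero] at this
        rw [← this]
        refine Finset.sum_congr rfl fun j _ => ?_
        rw [hv j a, smul_smul, smul_smul]
        congr 1
        ring
      have hsum : ∑ j, (g j * ∑ a : A, i.1 a * j.1 a) • v j = 0 := by
        simp only [Finset.mul_sum, Finset.sum_smul]
        rw [Finset.sum_comm]
        exact Finset.sum_eq_zero fun a _ => happ a
      have hval : ∀ j : Φ, (∑ a : A, i.1 a * j.1 a) = if i = j then (q : ZMod p) else 0 := by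
        intro j
        have h := sum_hom_units (i.1 * j.1)
        simp only [MonoidHom.mul_apply, apply_ite (Nat.cast : ℕ → ZMod p), Nat.cast_zero] at h
        rw [h]
        by_cases hij : i = j
        · rw [if_pos hij, if_pos]
          subst hij
          exact MonoidHom.ext fun a => by
            rw [MonoidHom.mul_apply, ← map_mul, h2', map_one, MonoidHom.one_apply]
        · rw [if_neg hij, if_neg]
          intro e
          refine hij (Subtype.ext (MonoidHom.ext fun a => ?_))
          have h1 : i.1 a * j.1 a = 1 := DFunLike.congr_fun e a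
          have h3 : i.1 a * i.1 a = 1 := by rw [← map_mul, h2', map_one]
          calc i.1 a = i.1 a * (i.1 a * j.1 a) := by rw [h1, mul_one]
            _ = j.1 a := by rw [← mul_assoc, h3, one_mul]
      simp only [hval, mul_ite, mul_zero, ite_smul, zero_smul, Finset.sum_ite_eq, Finset.mem_univ,
        if_true] at hsum
      exact (mul_eq_zero.1 ((smul_eq_zero.1 hsum).resolve_right (hv0 i))).resolve_right hqne
    have h := hli.fintype_card_le_finrank
    rwa [Fintype.card_coe] at h
  rw [Nat.card_eq_fintype_card, ← hq]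
  refine le_trans ?_ hle
  rcases Nat.eq_zero_or_pos (q - 1) with h0 | h0
  · omega
  refine Nat.le_of_dvd hne.card_pos ?_
  have hev : 2 ∣ q := ⟨_, (two_mul_card_neg h21 h2' _ (Finset.mem_filter.1 hne.choose_spec).2.1).symm⟩
  have hdvd : q - 1 ∣ Φ.card * q := by
    refine ⟨c * 2, ?_⟩
    calc Φ.card * q = Φ.card * (q / 2) * 2 := by rw [mul_assoc, Nat.div_mul_cancel hev]
      _ = (q - 1) * (c * 2) := by rw [hcount, mul_assoc]
  refine (Nat.Coprime.dvd_of_dvd_mul_right ?_ hdvd)
  exact (Nat.coprime_self_sub_left (by omega)).2 (Nat.coprime_one_left q)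

end Cfsg.Agent.TriplyNormal
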