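import Cfsg.Agent.Lib.Solvable.Basic
import Cfsg.Agent.EqLemmas

/-!
A non-commutative minimal normal subgroup has a simple factor carrying all its primes.

* `exists_simple_factor`
-/

set_option autoImplicit false
set_option linter.style.haveILetI false
set_option linter.unusedSectionVars false

namespace Cfsg.Agent.TriplyNormal

open Subgroup

variable {Q : Type*} [Group Q] [Finite Q]

theorem dvd_card_of_dvd_iSup {r : ℕ} (hr : r.Prime) {ι : Type*} (s : Finset ι) (A : ι → Subgroup Q)
    [∀ i, (A i).Normal] (h : r ∣ Nat.card ↥(s.sup A)) : ∃ i ∈ s, r ∣ Nat.card (A i) := by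
  classical
  induction s using Finset.induction_on with
  | empty =>
    rw [Finset.sup_empty, Subgroup.card_bot] at h
    exact absurd (Nat.dvd_one.1 h) hr.ne_one
  | insert i t hit ih =>
    rw [Finset.sup_insert] at h
    have hcard : Nat.card ↥(A i ⊔ t.sup A) = Nat.card (A i) * (A i).relIndex (t.sup A) := by
      rw [← Subgroup.relIndex_sup_left (K := A i) (H := t.sup A), Subgroup.relIndex,
        ← Nat.card_congr (Subgroup.subgroupOfEquivOfLe (le_sup_left (a := A i) (b := t.sup A))).toEquiv,
        Subgroup.card_mul_index]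
    rw [hcard] at h
    rcases hr.dvd_mul.1 h with h1 | h1
    · exact ⟨i, Finset.mem_insert_self _ _, h1⟩
    · obtain ⟨j, hj, hjr⟩ := ih (h1.trans (Subgroup.index_dvd_card _))
      exact ⟨j, Finset.mem_insert_of_mem hj, hjr⟩

/-- A non-commutative minimal normal subgroup `K` contains a non-commutative simple subgroup whose
order has all the prime divisors of `|K|`. -/
theorem exists_simple_factor (K : Subgroup Q) [hK : K.Normal]
    (hmin : ∀ N : Subgroup Q, N.Normal → N ≤ K → N = ⊥ ∨ N = K) (hnc : ¬ IsMulCommutative K) :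
    ∃ M : Subgroup Q, M ≤ K ∧ IsSimpleGroup M ∧ ¬ IsMulCommutative M ∧
      ∀ r : ℕ, r.Prime → r ∣ Nat.card K → r ∣ Nat.card M := by
  classical
  have hK0 : (⊤ : Subgroup K) ≠ ⊥ := by
    intro h
    exact hnc ⟨⟨fun a b => by
      rw [Subgroup.mem_bot.1 (h ▸ Subgroup.mem_top a : a ∈ (⊥ : Subgroup K)), one_mul, mul_one]⟩⟩
  obtain ⟨M, hMn, hM0, -, hMmin⟩ := Solvable.exists_minimal_normal (N := (⊤ : Subgroup K)) hK0
  let C : Q → Subgroup K := fun g => M.map (MulAut.conjNormal g : K ≃* K).toMonoidHom
  haveI hCn : ∀ g, (C g).Normal := fun g => hMn.map _ (MulEquiv.surjective _)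
  have hCcard : ∀ g, Nat.card (C g) = Nat.card M := fun g =>
    (Nat.card_congr (M.equivMapOfInjective _ (MulEquiv.injective _)).toEquiv).symm
  have hone : C 1 = M := by
    show M.map (MulAut.conjNormal (1 : Q) : K ≃* K).toMonoidHom = M
    rw [map_one]
    exact Subgroup.map_id M
  -- the conjugates generate
  let S : Subgroup K := ⨆ g, C g
  have hS : S = ⊤ := by
    have hn : (S.map K.subtype).Normal := ⟨by
      rintro _ ⟨x, hx, rfl⟩ g
      refine ⟨MulAut.conjNormal g x, ?_, MulAut.conjNormal_apply g x⟩
      have hle : S.map (MulAut.conjNormal g : K ≃* K).toMonoidHom ≤ S := by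
        rw [Subgroup.map_iSup]
        refine iSup_le fun h => le_of_eq_of_le ?_ (le_iSup C (g * h))
        show (M.map _).map _ = M.map _
        rw [Subgroup.map_map]
        congr 1
        rw [map_mul]
        rfl
      exact hle ⟨x, hx, rfl⟩⟩
    rcases hmin _ hn (Subgroup.map_subtype_le _) with h | h
    · rw [Subgroup.map_eq_bot_iff_of_injective _ K.subtype_injective] at h
      exact absurd (le_bot_iff.1 (h ▸ (hone ▸ le_iSup C 1 : M ≤ S))) hM0
    · exact Subgroup.map_injective K.subtype_injective (h.trans (by rw [← MonoidHom.range_eq_map, range_subtype]))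
  -- distinct conjugates commute
  have hcomm : ∀ g, C g ≠ M → ∀ c ∈ C g, ∀ m ∈ M, c * m = m * c := by
    intro g hg c hc m hm
    have hdis : Disjoint (C g) M := by
      rw [disjoint_iff]
      rcases hMmin (C g ⊓ M) inferInstance inf_le_right with h | h
      · exact h
      · exact absurd (Subgroup.eq_of_le_of_card_ge (inf_eq_right.1 h) (hCcard g).le).symm hg
    exact Subgroup.commute_of_normal_of_disjoint _ _ (hCn g) hMn hdis c m hc hm
  -- normal subgroups of `M` are normal
  have hsub : ∀ N : Subgroup M, N.Normal → N = ⊥ ∨ N = ⊤ := by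
    intro N hN
    have hn : (N.map M.subtype).Normal := by
      rw [← Subgroup.normalizer_eq_top_iff, eq_top_iff, ← hS]
      refine iSup_le fun g => ?_
      by_cases hg : C g = M
      · rw [hg]
        intro m hm
        rw [Subgroup.mem_normalizer_iff]
        intro x
        constructor
        · rintro ⟨n, hn, rfl⟩
          exact ⟨⟨m, hm⟩ * n * ⟨m, hm⟩⁻¹, hN.conj_mem n hn _, rfl⟩
        · rintro ⟨n, hn, he⟩
          refine ⟨⟨m, hm⟩⁻¹ * n * ⟨m, hm⟩, ?_, ?_⟩
          · simpa using hN.conj_mem n hn ⟨m, hm⟩⁻¹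
          · show m⁻¹ * (n : K) * m = x
            rw [show ((n : M) : K) = m * x * m⁻¹ from he]
            group
      · intro c hc
        rw [Subgroup.mem_normalizer_iff]
        intro x
        constructor
        · rintro ⟨n, hn, rfl⟩
          exact ⟨n, hn, by rw [Subgroup.subtype_apply, hcomm g hg c hc _ n.2]; simp⟩
        · rintro ⟨n, hn, he⟩
          refine ⟨n, hn, ?_⟩
          show (n : K) = x
          have he' : (n : K) = c * x * c⁻¹ := he
          have hx : x = c⁻¹ * (n : K) * c := by rw [he']; group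
          rw [hx, mul_assoc, ← hcomm g hg c hc _ n.2, inv_mul_cancel_left]
    rcases hMmin _ hn (Subgroup.map_subtype_le _) with h | h
    · exact Or.inl ((Subgroup.map_eq_bot_iff_of_injective _ M.subtype_injective).1 h)
    · exact Or.inr (Subgroup.map_injective M.subtype_injective (h.trans (by rw [← MonoidHom.range_eq_map, range_subtype])))
  haveI : Nontrivial M := (Subgroup.nontrivial_iff_ne_bot M).2 hM0
  have hsimple : IsSimpleGroup M := ⟨hsub⟩
  have hncM : ¬ IsMulCommutative M := by
    intro hab
    refine hnc ?_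
    have hcc : ∀ g, ∀ x ∈ C g, ∀ m ∈ M, x * m = m * x := by
      intro g x hx m hm
      by_cases hg : C g = M
      · exact congrArg Subtype.val (hab.is_comm.comm ⟨x, hg ▸ hx⟩ ⟨m, hm⟩)
      · exact hcomm g hg x hx m hm
    have hMZ : M ≤ Subgroup.center K := by
      intro m hm
      have hle : (⊤ : Subgroup K) ≤ Subgroup.centralizer ({m} : Set K) := by
        rw [← hS]
        exact iSup_le fun g x hx => Subgroup.mem_centralizer_singleton_iff.2 (hcc g x hx m hm)
      rw [Subgroup.mem_center_iff]
      intro y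
      exact (Subgroup.mem_centralizer_singleton_iff.1 (hle (Subgroup.mem_top y)))
    have htop : (⊤ : Subgroup K) ≤ Subgroup.center K := by
      rw [← hS]
      refine iSup_le fun g => ?_
      rintro _ ⟨m, hm, rfl⟩
      exact (Subgroup.centerCharacteristic.fixed (MulAut.conjNormal g : K ≃* K)).ge (hMZ hm)
    exact ⟨⟨fun a b => (Subgroup.mem_center_iff.1 (htop (Subgroup.mem_top b)) a)⟩⟩
  haveI : Nontrivial ↥(M.map K.subtype) := (M.equivMapOfInjective _ K.subtype_injective).toEquiv.nontrivial_congr.1 inferInstance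
  refine ⟨M.map K.subtype, Subgroup.map_subtype_le _, ?_, ?_, ?_⟩
  · exact IsSimpleGroup.isSimpleGroup_of_surjective (M.equivMapOfInjective _ K.subtype_injective).toMonoidHom
      (MulEquiv.surjective _)
  · intro hab
    refine hncM ⟨⟨fun a b => ?_⟩⟩
    let e := M.equivMapOfInjective _ K.subtype_injective
    exact e.injective (by rw [map_mul, map_mul]; exact hab.is_comm.comm _ _)
  · intro r hr hdvd
    haveI := Fintype.ofFinite Q
    have hsup : (Finset.univ : Finset Q).sup C = ⊤ := by
      rw [Finset.sup_univ_eq_iSup]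
      exact hS
    obtain ⟨g, -, hg⟩ := dvd_card_of_dvd_iSup hr (Finset.univ : Finset Q) C (by
      rw [hsup, Subgroup.card_top]; exact hdvd)
    rw [hCcard] at hg
    rwa [← Nat.card_congr (M.equivMapOfInjective _ K.subtype_injective).toEquiv]

end Cfsg.Agent.TriplyNormal
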