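import Cfsg.Agent.Lib.TriplyNormal.Solvable

/-!
Solvable normal subgroups of linear groups with an element of primitive prime order.

* `Ctx.semiregular_or_exists`
-/

set_option autoImplicit false
set_option linter.style.haveILetI false
set_option linter.unusedSectionVars false

namespace Cfsg.Agent.TriplyNormal

open Module ThreePrime Subgroup

universe u

variable {p : ℕ} [hp : Fact p.Prime] {V : Type*} [AddCommGroup V] [Module (ZMod p) V] [Finite V]
  {L : Type u} [Group L] [Finite L] {ρ : L →* Module.End (ZMod p) V} {e ℓ : ℕ}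

/-- Either the solvable normal subgroup fixes no non-zero vector, or its elements of order `ℓ`
form one cyclic group. -/
theorem Ctx.semiregular_or_exists (C : Ctx ρ e ℓ) (hl : ℓ ∣ Nat.card L) (X : Subgroup L) [X.Normal]
    [Group.IsSolvable X] :
    (∀ g ∈ X, ∀ v : V, v ≠ 0 → ρ g v = v → g = 1) ∨
      ∃ z ∈ X, orderOf z = ℓ ∧ ∀ x ∈ X, x ^ ℓ = 1 → x ∈ Subgroup.zpowers z := by
  classical
  haveI := Fact.mk C.ppd.prime
  obtain ⟨a, ha⟩ := exists_prime_orderOf_dvd_card' (G := L) ℓ hl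
  by_cases hall : ∀ x ∈ X, Commute a x
  · exact Or.inl fun g hg v hv hfix => C.eq_one_of_fixed ha (hall g hg) hv hfix
  right
  push Not at hall
  obtain ⟨x, hx, hxa⟩ := hall
  obtain ⟨F, hFn, hFX, hFa, hFc⟩ := C.exists_fitting X
  haveI := hFn
  haveI : IsCyclic F := C.isCyclic_of_centralized ha (hFa a ha)
  set c := a * x * a⁻¹ * x⁻¹ with hc
  have hcX : c ∈ X := mul_mem (Subgroup.Normal.conj_mem inferInstance x hx a) (inv_mem hx)
  have hcF : c ∈ F := by
    refine hFc c hcX fun f hf => ?_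
    have hf' : x⁻¹ * f * x ∈ F := by simpa using hFn.conj_mem f hf x⁻¹
    have h1 := (hFa a ha f hf).eq
    have h2 := (hFa a ha _ hf').eq
    calc c * f = a * x * (a⁻¹ * ((x⁻¹ * f * x) * a)) * a⁻¹ * x⁻¹ := by rw [hc]; group
      _ = a * x * (a⁻¹ * (a * (x⁻¹ * f * x))) * a⁻¹ * x⁻¹ := by rw [h2]
      _ = a * f * x * a⁻¹ * x⁻¹ := by group
      _ = f * a * x * a⁻¹ * x⁻¹ := by rw [h1]
      _ = f * c := by rw [hc]; group
  have hca : Commute a c := hFa a ha c hcF
  have hpow : ∀ k : ℕ, a ^ k * x * (a ^ k)⁻¹ = c ^ k * x := by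
    intro k
    induction k with
    | zero => simp
    | succ k ih =>
      calc a ^ (k + 1) * x * (a ^ (k + 1))⁻¹ = a * (a ^ k * x * (a ^ k)⁻¹) * a⁻¹ := by
            rw [pow_succ']; group
        _ = (a * c ^ k) * x * a⁻¹ := by rw [ih]; group
        _ = (c ^ k * a) * x * a⁻¹ := by rw [(hca.pow_right k).eq]
        _ = c ^ k * (a * x * a⁻¹ * x⁻¹) * x := by group
        _ = c ^ (k + 1) * x := by rw [← hc, pow_succ]
  have hcl : c ^ ℓ = 1 := by
    have h := hpow ℓ
    rw [show a ^ ℓ = 1 by rw [← ha, pow_orderOf_eq_one], one_mul, inv_one, mul_one] at h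
    exact mul_eq_right.1 h.symm
  have hc1 : c ≠ 1 := fun h => hxa (mul_inv_eq_iff_eq_mul.1 (mul_inv_eq_one.1 h))
  have hord : orderOf c = ℓ := orderOf_eq_prime hcl hc1
  refine ⟨c, hcX, hord, fun y hy hyl => ?_⟩
  have hyF : y ∈ F := by
    rcases eq_or_ne y 1 with rfl | hy1
    · exact one_mem F
    · exact hFc y hy fun f hf => (hFa y (orderOf_eq_prime hyl hy1) f hf).eq
  haveI := Fintype.ofFinite F
  have hle := IsCyclic.card_pow_eq_one_le (α := F) C.ppd.prime.pos
  have hzF : Subgroup.zpowers c ≤ F := Subgroup.zpowers_le.2 hcF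
  by_contra hyz
  have hlt : ((Finset.univ : Finset F).filter fun f : F => (f : L) ∈ Subgroup.zpowers c).card <
      ((Finset.univ : Finset F).filter fun f : F => f ^ ℓ = 1).card := by
    refine Finset.card_lt_card (Finset.ssubset_iff_of_subset ?_ |>.2 ⟨⟨y, hyF⟩, ?_, ?_⟩)
    · intro f hf
      rw [Finset.mem_filter] at hf ⊢
      obtain ⟨i, hi⟩ := Subgroup.mem_zpowers_iff.1 hf.2
      refine ⟨Finset.mem_univ _, Subtype.ext ?_⟩
      rw [Subgroup.coe_pow, Subgroup.coe_one, ← hi, ← zpow_natCast (c ^ i), ← zpow_mul, mul_comm,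
        zpow_mul, zpow_natCast, hcl, one_zpow]
    · exact Finset.mem_filter.2 ⟨Finset.mem_univ _, Subtype.ext hyl⟩
    · exact fun h => hyz (Finset.mem_filter.1 h).2
  have hcard : ((Finset.univ : Finset F).filter fun f : F => (f : L) ∈ Subgroup.zpowers c).card = ℓ := by
    rw [← Fintype.card_subtype, ← Nat.card_eq_fintype_card]
    refine (Nat.card_congr ((Subgroup.subgroupOfEquivOfLe hzF).toEquiv)).trans ?_
    rw [Nat.card_zpowers, hord]
  omega

end Cfsg.Agent.TriplyNormal
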