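import Cfsg.Agent.Lib.TriplyNormal.Key
import Cfsg.Agent.Lib.TriplyNormal.Semireg
import Cfsg.Agent.Lib.Zsigmondy.Basic
import Cfsg.Agent.Lib.HallHigman.FrattiniModule

/-!
The two-point stabilisers of a minimal normal subgroup of a triply transitive group are semiregular,
when the point stabiliser has an elementary abelian regular normal subgroup of odd rank.

* `semiregular_two_point`
-/

set_option autoImplicit false
set_option linter.style.haveILetI false
set_option linter.unusedSectionVars false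

namespace Cfsg.Agent.TriplyNormal

open MulAction

universe u v

variable {G : Type u} [Group G] [Finite G] {Ω : Type v} [MulAction G Ω] [Finite Ω] [FaithfulSMul G Ω]
  {a b : Ω} {R : Subgroup G}

theorem card_regPoint (hR : RegPoint a R) (hab : a ≠ b) : Nat.card R + 1 = Nat.card Ω := by
  classical
  cases nonempty_fintype Ω
  have h : Nat.card R = Nat.card {x : Ω // x ≠ a} := by
    refine Nat.card_eq_of_bijective (fun r : R => ⟨(r : G) • b,
      fun e => hab.symm (MulAction.injective (r : G) (e.trans (hR.le r.2).symm))⟩) ⟨?_, ?_⟩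
    · intro r s h
      have h' : (r : G) • b = (s : G) • b := congrArg Subtype.val h
      have hfix : ((s : G)⁻¹ * r) • b = b := by rw [mul_smul, h', inv_smul_smul]
      exact Subtype.ext (inv_mul_eq_one.1 (hR.free _ (mul_mem (inv_mem s.2) r.2) b hab.symm hfix)).symm
    · rintro ⟨x, hx⟩
      obtain ⟨r, hr, hrx⟩ := hR.trans b x hab.symm hx
      exact ⟨⟨r, hr⟩, Subtype.ext hrx⟩
  rw [h, Nat.card_eq_fintype_card, Nat.card_eq_fintype_card, Fintype.card_subtype_compl,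
    Fintype.card_subtype_eq]
  have : 0 < Fintype.card Ω := Fintype.card_pos_iff.2 ⟨a⟩
  omega

theorem mod_three_exponent {p e : ℕ} (h : (p ^ e + 1) % 3 = 0) : Odd e := by
  rw [← Nat.not_even_iff_odd]
  rintro ⟨i, rfl⟩
  rw [← two_mul, pow_mul] at h
  have h2 : (p ^ 2) ^ i % 3 = ((p % 3) ^ 2 % 3) ^ i % 3 := by
    rw [← Nat.pow_mod p, ← Nat.pow_mod]
  rcases (show p % 3 = 0 ∨ p % 3 = 1 ∨ p % 3 = 2 by omega) with h3 | h3 | h3 <;>
    simp only [h3, Nat.reducePow, Nat.reduceMod, one_pow] at h2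
  · rcases Nat.eq_zero_or_pos i with rfl | hi
    · simp at h
    · rw [zero_pow hi.ne'] at h2
      omega
  · omega
  · omega

/-- If the two-point stabiliser of the minimal normal subgroup `N` has order prime to three or is
solvable, it is semiregular on the other points. -/
theorem semiregular_two_point (h3 : IsMultiplyPretransitive G Ω 3) (hdvd : 3 ∣ Nat.card Ω)
    (hcard : 3 < Nat.card Ω) (hev : Even (Nat.card Ω)) (hab : a ≠ b)
    (N : Subgroup G) [hNn : N.Normal] (hN : N ≠ ⊥)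
    (hmin : ∀ M : Subgroup G, M.Normal → M ≤ N → M = ⊥ ∨ M = N)
    (hR : RegPoint a R) (hcomm : ∀ x ∈ R, ∀ y ∈ R, x * y = y * x)
    {p : ℕ} (hp : p.Prime) (hexp : ∀ x ∈ R, x ^ p = 1)
    (hX : ¬ 3 ∣ Nat.card ↥(N ⊓ stabilizer G a ⊓ stabilizer G b) ∨
      Group.IsSolvable ↥(N ⊓ stabilizer G a ⊓ stabilizer G b)) :
    ∀ g ∈ N ⊓ stabilizer G a ⊓ stabilizer G b, ∀ c : Ω, c ≠ a → c ≠ b → g • c = c → g = 1 := by
  classical
  haveI := Fact.mk hp
  set X := N ⊓ stabilizer G a ⊓ stabilizer G b with hXdef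
  set L := stabilizer G a ⊓ stabilizer G b with hLdef
  have hXL : X ≤ L := fun g hg => ⟨hg.1.2, hg.2⟩
  have hRcard := card_regPoint hR hab
  obtain ⟨e, he⟩ := IsPGroup.iff_card.1
    (show IsPGroup p R from fun x => ⟨1, by rw [pow_one]; exact Subtype.ext (hexp x x.2)⟩)
  have hp2 : p ≠ 2 := by
    rintro rfl
    obtain ⟨k, hk⟩ := hev
    rcases Nat.eq_zero_or_pos e with rfl | he0
    · rw [pow_zero] at he; omega
    · have : 2 ∣ 2 ^ e := dvd_pow_self 2 he0.ne'
      omega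
  have heodd : Odd e := mod_three_exponent (p := p) (by rw [← he]; omega)
  -- the linear action
  letI : CommGroup R :=
    { (inferInstance : Group R) with mul_comm := fun x y => Subtype.ext (hcomm x x.2 y y.2) }
  let cj : L →* MulAut R :=
    { toFun := fun g =>
        { toFun := fun r => ⟨(g : G) * r * (g : G)⁻¹, hR.norm g g.2.1 r r.2⟩
          invFun := fun r => ⟨(g : G)⁻¹ * r * (g : G)⁻¹⁻¹, hR.norm _ (inv_mem g.2.1) r r.2⟩
          left_inv := fun r => Subtype.ext (by simp [mul_assoc])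
          right_inv := fun r => Subtype.ext (by simp [mul_assoc])
          map_mul' := fun r s => Subtype.ext (by simp [mul_assoc]) }
      map_one' := MulEquiv.ext fun r => Subtype.ext (by simp)
      map_mul' := fun g g' => MulEquiv.ext fun r => Subtype.ext (by simp [mul_assoc]) }
  obtain ⟨hmod, σ, hσ⟩ := HallHigman.exists_linear_rep (p := p)
    (fun x : R => Subtype.ext (hexp x x.2)) cj
  have hfixL : ∀ g : L, ∀ r : R, σ g (Additive.ofMul r) = Additive.ofMul r →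
      (g : G) • ((r : G) • b) = (r : G) • b := by
    intro g r h
    rw [hσ] at h
    have h' : (g : G) * r * (g : G)⁻¹ = r := congrArg Subtype.val (Additive.ofMul.injective h)
    conv_rhs => rw [← h']
    rw [mul_smul, mul_smul, inv_smul_eq_iff.2 (g.2.2 : (g : G) • b = b).symm]
  have hσinj : Function.Injective σ := by
    rw [injective_iff_map_eq_one]
    intro g hg
    refine Subtype.ext (FaithfulSMul.eq_of_smul_eq_smul (α := Ω) fun x => ?_)
    rw [Subgroup.coe_one, one_smul]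
    by_cases hx : x = a
    · rw [hx]; exact g.2.1
    · obtain ⟨r, hr, rfl⟩ := hR.trans b x hab.symm hx
      exact hfixL g ⟨r, hr⟩ (by rw [hg]; rfl)
  have hfix : ∀ g : L, ∀ c : Ω, c ≠ a → c ≠ b → (g : G) • c = c →
      ∃ v : Additive R, v ≠ 0 ∧ σ g v = v := by
    intro g c hca hcb hgc
    obtain ⟨r, hr, hrb⟩ := hR.trans b c hab.symm hca
    refine ⟨Additive.ofMul ⟨r, hr⟩, fun h => hcb ?_, ?_⟩
    · have h' : r = 1 := congrArg Subtype.val (Additive.ofMul.injective h)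
      rw [← hrb, h', one_smul]
    · rw [hσ]
      refine congrArg Additive.ofMul (Subtype.ext ?_)
      show (g : G) * r * (g : G)⁻¹ = r
      have hf : (r⁻¹ * ((g : G) * r * (g : G)⁻¹)) • b = b := by
        rw [mul_smul, mul_smul, mul_smul, inv_smul_eq_iff.2 (g.2.2 : (g : G) • b = b).symm, hrb, hgc,
          inv_smul_eq_iff.2 hrb.symm]
      exact (inv_mul_eq_one.1 (hR.free _ (mul_mem (inv_mem hr) (hR.norm g g.2.1 r hr)) b hab.symm
        hf)).symm
  have hV : Nat.card (Additive R) = p ^ e := he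
  intro g hg c hca hcb hgc
  set gL : L := ⟨g, hXL hg⟩ with hgL
  obtain ⟨v, hv0, hv⟩ := hfix gL c hca hcb hgc
  suffices hgoal : gL = 1 from congrArg Subtype.val hgoal
  rcases (show e = 1 ∨ 1 < e by rcases heodd with ⟨i, hi⟩; omega) with he1 | he1
  · -- prime order
    refine hσinj ?_
    rw [map_one]
    refine LinearMap.ext fun w => ?_
    have hcyc : Subgroup.zpowers (Additive.toMul v) = ⊤ := by
      refine (Subgroup.card_eq_iff_eq_top _).1 ?_
      rw [Nat.card_zpowers, he, he1, pow_one]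
      refine orderOf_eq_prime (Subtype.ext (hexp _ (Additive.toMul v).2)) fun h => hv0 ?_
      exact Additive.toMul.injective h
    obtain ⟨i, hi⟩ := Subgroup.mem_zpowers_iff.1 (hcyc ▸ Subgroup.mem_top (Additive.toMul w))
    rw [show w = i • v from (congrArg Additive.ofMul hi).symm, map_zsmul, hv]
    rfl
  obtain ⟨ℓ, hℓp, hℓd, hℓprim⟩ := Zsigmondy.exists_primitive hp.one_lt he1
    (fun h => hp2 h.1) (fun h => by rw [h.1] at heodd; exact absurd heodd (by decide))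
  let C : Ctx σ e ℓ := ⟨hσinj, hV, ⟨hℓp, hℓd, hℓprim⟩, heodd, he1, hp2⟩
  have hℓL : ℓ ∣ Nat.card L := by
    obtain ⟨c₀, hc₀a, hc₀b⟩ : ∃ c₀, c₀ ≠ a ∧ c₀ ≠ b := ⟨c, hca, hcb⟩
    have horb : orbit L c₀ = ({a, b}ᶜ : Set Ω) := by
      ext x
      constructor
      · rintro ⟨l, rfl⟩
        simp only [Set.mem_compl_iff, Set.mem_insert_iff, Set.mem_singleton_iff, not_or]
        exact ⟨fun h => hc₀a (MulAction.injective (l : G) (h.trans (l.2.1).symm)),
          fun h => hc₀b (MulAction.injective (l : G) (h.trans (l.2.2).symm))⟩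
      · intro hx
        simp only [Set.mem_compl_iff, Set.mem_insert_iff, Set.mem_singleton_iff, not_or] at hx
        obtain ⟨g', h1, h2, h3'⟩ := Perm.exists_smul_triple h3 hab hc₀a.symm hc₀b.symm hab (Ne.symm hx.1)
          (Ne.symm hx.2)
        exact ⟨⟨g', h1, h2⟩, h3'⟩
    have hi : (stabilizer L c₀).index = p ^ e - 1 := by
      rw [index_stabilizer, horb, Set.ncard_compl, Set.ncard_pair hab]
      omega
    exact (hi ▸ hℓd).trans (Subgroup.index_dvd_card _)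
  let XL := X.subgroupOf L
  haveI hXn : XL.Normal := ⟨fun x hx y => by
    rw [Subgroup.mem_subgroupOf] at hx ⊢
    refine ⟨⟨hNn.conj_mem _ hx.1.1 _, ?_⟩, ?_⟩
    · exact (stabilizer G a).mul_mem ((stabilizer G a).mul_mem y.2.1 hx.1.2)
        ((stabilizer G a).inv_mem y.2.1)
    · exact (stabilizer G b).mul_mem ((stabilizer G b).mul_mem y.2.2 hx.2)
        ((stabilizer G b).inv_mem y.2.2)⟩
  haveI : Group.IsSolvable XL := by
    rcases hX with h | h
    · exact C.isSolvable_of_three_prime hℓL XL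
        (by rwa [Nat.card_congr (Subgroup.subgroupOfEquivOfLe hXL).toEquiv])
    · haveI := h
      exact Group.isSolvable_of_isSolvable_injective (f := (Subgroup.subgroupOfEquivOfLe hXL).toMonoidHom)
        (MulEquiv.injective _)
  rcases C.semiregular_or_exists hℓL XL with h | ⟨z, hz, hzo, hzu⟩
  · exact h gL (Subgroup.mem_subgroupOf.2 hg) v hv0 hv
  -- the normalised subgroup of order `ℓ`
  set z' : G := (z : G) with hz'
  have hzX : z' ∈ X := Subgroup.mem_subgroupOf.1 hz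
  have hzl : z' ^ ℓ = 1 := by
    rw [hz', ← Subgroup.coe_pow, ← hzo, pow_orderOf_eq_one, Subgroup.coe_one]
  have hnorm : ∀ x : G, (x ∈ L ∨ (x • a = b ∧ x • b = a)) → ∃ i : ℤ, x * z' * x⁻¹ = z' ^ i := by
    intro x hx
    have hxab : (x⁻¹ • a = a ∧ x⁻¹ • b = b ∧ x • a = a ∧ x • b = b) ∨
        (x⁻¹ • a = b ∧ x⁻¹ • b = a ∧ x • a = b ∧ x • b = a) := by
      rcases hx with ⟨h1, h2⟩ | ⟨h1, h2⟩
      · exact Or.inl ⟨inv_smul_eq_iff.2 (h1 : x • a = a).symm,
          inv_smul_eq_iff.2 (h2 : x • b = b).symm, h1, h2⟩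
      · exact Or.inr ⟨inv_smul_eq_iff.2 h2.symm, inv_smul_eq_iff.2 h1.symm, h1, h2⟩
    have hmem : x * z' * x⁻¹ ∈ X := by
      refine ⟨⟨hNn.conj_mem _ hzX.1.1 x, ?_⟩, ?_⟩
      · show (x * z' * x⁻¹) • a = a
        rcases hxab with ⟨h1, -, h2, -⟩ | ⟨h1, -, -, h2⟩
        · rw [mul_smul, mul_smul, h1, (hzX.1.2 : z' • a = a), h2]
        · rw [mul_smul, mul_smul, h1, (hzX.2 : z' • b = b), h2]
      · show (x * z' * x⁻¹) • b = b
        rcases hxab with ⟨-, h1, -, h2⟩ | ⟨-, h1, h2, -⟩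
        · rw [mul_smul, mul_smul, h1, (hzX.2 : z' • b = b), h2]
        · rw [mul_smul, mul_smul, h1, (hzX.1.2 : z' • a = a), h2]
    obtain ⟨i, hi⟩ := Subgroup.mem_zpowers_iff.1 (hzu ⟨_, hXL hmem⟩ (Subgroup.mem_subgroupOf.2 hmem)
      (Subtype.ext (show (x * z' * x⁻¹) ^ ℓ = 1 by
        rw [conj_pow, hzl, mul_one, mul_inv_cancel])))
    refine ⟨i, ?_⟩
    have h := congrArg Subtype.val hi
    rw [Subgroup.coe_zpow] at h
    exact h.symm
  have hpair : ∀ x y : G, (x ∈ L ∨ (x • a = b ∧ x • b = a)) → (y ∈ L ∨ (y • a = b ∧ y • b = a)) →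
      (x * y * x⁻¹ * y⁻¹) * z' = z' * (x * y * x⁻¹ * y⁻¹) := by
    intro x y hx hy
    have hinv : ∀ {w : G}, (w ∈ L ∨ (w • a = b ∧ w • b = a)) →
        (w⁻¹ ∈ L ∨ (w⁻¹ • a = b ∧ w⁻¹ • b = a)) := fun {w} hw => by
      rcases hw with hw | ⟨h1, h2⟩
      · exact Or.inl (inv_mem hw)
      · exact Or.inr ⟨inv_smul_eq_iff.2 h2.symm, inv_smul_eq_iff.2 h1.symm⟩
    obtain ⟨i, hi⟩ := hnorm _ (hinv hx)
    obtain ⟨j, hj⟩ := hnorm _ (hinv hy)
    rw [inv_inv] at hi hj
    have h1 : (x⁻¹ * y⁻¹) * z' * (x⁻¹ * y⁻¹)⁻¹ = (y⁻¹ * x⁻¹) * z' * (y⁻¹ * x⁻¹)⁻¹ := by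
      calc (x⁻¹ * y⁻¹) * z' * (x⁻¹ * y⁻¹)⁻¹ = x⁻¹ * (y⁻¹ * z' * y) * x⁻¹⁻¹ := by group
        _ = (x⁻¹ * z' * x⁻¹⁻¹) ^ j := by rw [hj, conj_zpow]
        _ = (y⁻¹ * z' * y⁻¹⁻¹) ^ i := by
          rw [inv_inv, inv_inv, hi, hj, ← zpow_mul, ← zpow_mul, mul_comm]
        _ = y⁻¹ * (x⁻¹ * z' * x) * y⁻¹⁻¹ := by rw [hi, conj_zpow]
        _ = (y⁻¹ * x⁻¹) * z' * (y⁻¹ * x⁻¹)⁻¹ := by group
    calc (x * y * x⁻¹ * y⁻¹) * z'
        = x * y * ((x⁻¹ * y⁻¹) * z' * (x⁻¹ * y⁻¹)⁻¹) * (x⁻¹ * y⁻¹) := by group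
      _ = x * y * ((y⁻¹ * x⁻¹) * z' * (y⁻¹ * x⁻¹)⁻¹) * (x⁻¹ * y⁻¹) := by rw [h1]
      _ = z' * (x * y * x⁻¹ * y⁻¹) := by group
  have hW := two_point_le_of_abelian_odd h3 hcard hR hab N hN hmin
    (L ⊓ Subgroup.centralizer ({z'} : Set G)) inf_le_left
    (fun x hx y hy => ⟨L.mul_mem (L.mul_mem (L.mul_mem hx hy) (L.inv_mem hx)) (L.inv_mem hy),
      Subgroup.mem_centralizer_singleton_iff.2 (hpair x y (Or.inl hx) (Or.inl hy))⟩)
    (fun x hx hxx => by
      refine ⟨hx, Subgroup.mem_centralizer_singleton_iff.2 ?_⟩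
      obtain ⟨i, hi⟩ := hnorm x (Or.inl hx)
      have hxx' : x * x * z' = z' * (x * x) := Subgroup.mem_centralizer_singleton_iff.1 hxx.2
      have h2 : z' ^ (i * i) = z' := by
        calc z' ^ (i * i) = (z' ^ i) ^ i := zpow_mul _ _ _
          _ = (x * z' * x⁻¹) ^ i := by rw [hi]
          _ = x * z' ^ i * x⁻¹ := conj_zpow
          _ = x * x * z' * (x * x)⁻¹ := by rw [← hi]; group
          _ = z' := by rw [hxx', mul_inv_cancel_right]
      have hdvd' : (ℓ : ℤ) ∣ (i - 1) * (i + 1) := by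
        have h3' : z' ^ (i * i - 1) = 1 := by rw [zpow_sub, h2, zpow_one, mul_inv_cancel]
        have h4 := orderOf_dvd_iff_zpow_eq_one.2 h3'
        rw [hz', Subgroup.orderOf_coe, hzo] at h4
        rwa [show (i - 1) * (i + 1) = i * i - 1 by ring]
      have hzl' : z' ^ (ℓ : ℤ) = 1 := by rw [zpow_natCast, hzl]
      rcases (Nat.prime_iff_prime_int.1 hℓp).dvd_mul.1 hdvd' with ⟨k, hk⟩ | ⟨k, hk⟩
      · rw [show i = (ℓ : ℤ) * k + 1 by rw [← hk]; ring, zpow_add, zpow_mul, hzl', one_zpow,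
          one_mul, zpow_one] at hi
        exact mul_inv_eq_iff_eq_mul.1 hi
      · rw [show i = (ℓ : ℤ) * k + (-1) by rw [← hk]; ring, zpow_add, zpow_mul, hzl', one_zpow,
          one_mul, zpow_neg_one] at hi
        exact absurd (Subtype.ext hi : (⟨x, hx⟩ : L) * z * (⟨x, hx⟩ : L)⁻¹ = z⁻¹)
          (C.not_inverted hzo))
    (fun t hta htb x hx => ⟨by
      refine L.mul_mem ⟨?_, ?_⟩ (L.inv_mem hx)
      · show (t * x * t⁻¹) • a = a
        rw [mul_smul, mul_smul, inv_smul_eq_iff.2 htb.symm, (hx.2 : x • b = b), htb]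
      · show (t * x * t⁻¹) • b = b
        rw [mul_smul, mul_smul, inv_smul_eq_iff.2 hta.symm, (hx.1 : x • a = a), hta],
      Subgroup.mem_centralizer_singleton_iff.2 (hpair t x (Or.inr ⟨hta, htb⟩) (Or.inl hx))⟩)
    hg
  exact C.eq_one_of_fixed hzo
    (Subtype.ext (Subgroup.mem_centralizer_singleton_iff.1 hW.2).symm) hv0 hv

end Cfsg.Agent.TriplyNormal
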