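import Cfsg.Agent.Lib.TriplyNormal.Defs
import Cfsg.Agent.Lib.TriplyNormal.Point
import Cfsg.Agent.Lib.Perm.Burnside
import Cfsg.Agent.Lib.Suzuki.Borel
import Cfsg.Agent.Lib.Zassenhaus.AbelianKernel
import Cfsg.Agent.S0341

/-!
A minimal normal subgroup of a triply transitive group of degree divisible by three.

* `two_trans_of_normal`, `regular_false` : no regular normal subgroup
* `regPoint_or_transitive` : the structure of the point stabiliser
* `zassenhaus_of_semiregular`
* `twoOrb_of_three_prime`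
-/

set_option autoImplicit false
set_option linter.style.haveILetI false
set_option linter.unusedSectionVars false

namespace Cfsg.Agent.TriplyNormal

open MulAction

universe u v

variable {G : Type u} [Group G] [Finite G] {Ω : Type v} [MulAction G Ω] [Finite Ω] [FaithfulSMul G Ω]
  {a b : Ω}

theorem regular_false (h3 : IsMultiplyPretransitive G Ω 3) (hdvd : 3 ∣ Nat.card Ω)
    (hcard : 3 < Nat.card Ω) (T : Subgroup G) [T.Normal] (hTt : IsPretransitive T Ω)
    (hTs : ∀ x : Ω, stabilizer T x = ⊥) : False := by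
  haveI : Nonempty Ω := (Nat.card_ne_zero.mp (by omega)).1
  have h2p : IsMultiplyPreprimitive G Ω 2 := by
    apply isMultiplyPreprimitive_of_isMultiplyPretransitive_succ G Ω
    rw [ENat.card_eq_coe_natCard]; exact_mod_cast hcard.le
  rcases Perm.regular_normal_of_two_primitive h2p hTt hTs with h | ⟨-, -, m, hm⟩
  · omega
  · rw [hm] at hdvd
    exact absurd ((Nat.prime_dvd_prime_iff_eq Nat.prime_three Nat.prime_two).1
      (Nat.prime_three.dvd_of_dvd_pow hdvd)) (by norm_num)

theorem two_trans_of_normal (h3 : IsMultiplyPretransitive G Ω 3) (hdvd : 3 ∣ Nat.card Ω)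
    (hcard : 3 < Nat.card Ω) (N : Subgroup G) [N.Normal] (hN : N ≠ ⊥) :
    IsMultiplyPretransitive N Ω 2 := by
  rcases Perm.jordan_normal (by norm_num) hcard h3 hN with h | ⟨-, hc, -⟩
  · exact h
  · exfalso
    haveI := isPreprimitive_of_is_two_pretransitive
      (isMultiplyPretransitive_of_le (G := G) (n := 3) (m := 2) (by omega) hcard.le)
    have ht := Perm.isPretransitive_of_normal_ne_bot (X := Ω) hN
    exact regular_false h3 hdvd hcard N ht (Perm.stabilizer_eq_bot_of_isMulCommutative ht hc)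

theorem exists_minimal_le (N : Subgroup G) [N.Normal] (hN : N ≠ ⊥) :
    ∃ N₀ : Subgroup G, N₀.Normal ∧ N₀ ≠ ⊥ ∧ N₀ ≤ N ∧
      ∀ M : Subgroup G, M.Normal → M ≤ N₀ → M = ⊥ ∨ M = N₀ :=
  Solvable.exists_minimal_normal hN

/-- A Suzuki group acting primitively on an odd number of points acts doubly transitively. -/
theorem suzuki_point_transitive {T : Type*} [Group T] [Finite T] (hT : Cfsg.Lie.IsoSuzuki T)
    {Y : Type*} [MulAction T Y] [Finite Y] (hY : Odd (Nat.card Y)) (hp : IsPreprimitive T Y)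
    (hY1 : 1 < Nat.card Y) (b' : Y) :
    ∀ x z : Y, x ≠ b' → z ≠ b' → ∃ g : T, g • b' = b' ∧ g • x = z := by
  obtain ⟨F, _, _, m, hm, hF, ⟨eF⟩⟩ := hT
  let eS : T ≃* Cfsg.Sz F m := eF.trans (Suzuki.lieEquiv (F := F) hm hF).symm
  obtain ⟨-, S, -, -, -, hS⟩ := Suzuki.borel_package hm hF eS
  haveI : Fact (Nat.Prime 2) := ⟨Nat.prime_two⟩
  haveI : Nontrivial Y := Finite.one_lt_card_iff_nontrivial.mp hY1
  obtain ⟨c, -, hc⟩ := Perm.exists_fixed_of_odd_set S.2 (S := (Set.univ : Set Y))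
    (by rwa [Set.ncard_univ]) (fun _ _ _ _ => Set.mem_univ _)
  have hcoatom : IsCoatom (stabilizer T c) := (isCoatom_stabilizer_iff_preprimitive T c).2 hp
  have hN : stabilizer T c = Subgroup.normalizer ((S : Subgroup T) : Set T) := by
    let P : Sylow 2 (Cfsg.Sz F m) := S.mapSurjective (f := eS.toMonoidHom) eS.surjective
    have hP : (P : Subgroup (Cfsg.Sz F m)) = (S : Subgroup T).map eS.toMonoidHom := rfl
    have h := (Suzuki.borel_maximal hm hF P).2 (eS.mapSubgroup (stabilizer T c))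
      ((OrderIso.isCoatom_iff eS.mapSubgroup _).2 hcoatom) (by
        rw [hP]; exact Subgroup.map_mono fun s hs => hc s hs)
    rw [hP, ← Subgroup.map_equiv_normalizer_eq (S : Subgroup T) eS] at h
    exact eS.mapSubgroup.injective h
  intro x z hx hz
  obtain ⟨k, hk⟩ := exists_smul_eq T b' c
  have hkx : k • x ≠ c := fun e => hx (MulAction.injective k (e.trans hk.symm))
  have hkz : k • z ≠ c := fun e => hz (MulAction.injective k (e.trans hk.symm))
  obtain ⟨g, hg⟩ := exists_smul_eq T c (k • x)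
  obtain ⟨g', hg'⟩ := exists_smul_eq T c (k • z)
  have hne : ∀ {h : T} {w : Y}, h • c = w → w ≠ c →
      (QuotientGroup.mk h : T ⧸ Subgroup.normalizer ((S : Subgroup T) : Set T)) ≠ QuotientGroup.mk 1 := by
    intro h w hw hwc e
    rw [QuotientGroup.eq, mul_one, inv_mem_iff, ← hN, mem_stabilizer_iff, hw] at e
    exact hwc e
  obtain ⟨s, hs, -⟩ := hS _ _ (hne hg hkx) (hne hg' hkz)
  have hs' : (QuotientGroup.mk ((s : T) * g) : T ⧸ Subgroup.normalizer ((S : Subgroup T) : Set T)) =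
      QuotientGroup.mk g' := hs
  rw [QuotientGroup.eq, ← hN, mem_stabilizer_iff] at hs'
  refine ⟨k⁻¹ * (s : T) * k, ?_, ?_⟩
  · rw [mul_smul, mul_smul, hk, hc s s.2, inv_smul_eq_iff, hk]
  · rw [mul_smul, mul_smul, inv_smul_eq_iff, ← hg, ← hg', ← mul_smul]
    rw [mul_smul _ g' c, inv_smul_eq_iff] at hs'
    exact hs'.symm

/-- The point stabiliser of `N` has a regular elementary abelian normal subgroup, or contains a
non-commutative simple subgroup whose action on the other points is primitive. -/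
theorem regPoint_or_simple (h3 : IsMultiplyPretransitive G Ω 3) (hdvd : 3 ∣ Nat.card Ω)
    (hcard : 3 < Nat.card Ω) (a : Ω) (N : Subgroup G) [N.Normal] (hN : N ≠ ⊥) :
    (∃ (R : Subgroup G) (p : ℕ), R ≤ N ∧ RegPoint a R ∧ (∀ x ∈ R, ∀ y ∈ R, x * y = y * x) ∧
      p.Prime ∧ ∀ x ∈ R, x ^ p = 1) ∨
    ∃ T : Subgroup (stabilizer G a), T ≤ N.subgroupOf (stabilizer G a) ∧ IsSimpleGroup T ∧
      (∃ x y : T, x * y ≠ y * x) ∧ IsPreprimitive T (SubMulAction.ofStabilizer G a) := by
  classical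
  have hG2 : IsMultiplyPretransitive G Ω 2 :=
    isMultiplyPretransitive_of_le (n := 3) (by omega) hcard.le
  haveI := isPreprimitive_of_is_two_pretransitive hG2
  haveI : IsPretransitive G Ω := isPretransitive_of_is_two_pretransitive
  have hNt : IsPretransitive N Ω := Perm.isPretransitive_of_normal_ne_bot hN
  have hNa : stabilizer N a ≠ ⊥ := by
    intro h
    refine regular_false h3 hdvd hcard N hNt fun x => ?_
    by_contra hx
    exact Perm.stabilizer_ne_bot_of_transitive hNt hx h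
  have hH := Perm.subgroupOf_stabilizer_ne_bot hNa
  obtain ⟨R₀, hR₀n, hR₀0, hR₀le, hR₀min⟩ := Solvable.exists_minimal_normal (N := N.subgroupOf (stabilizer G a)) hH
  haveI := hR₀n
  have hGa : IsMultiplyPretransitive (stabilizer G a) (SubMulAction.ofStabilizer G a) 2 :=
    SubMulAction.ofStabilizer.isMultiplyPretransitive.mp h3
  haveI := isPreprimitive_of_is_two_pretransitive hGa
  have hR₀t : IsPretransitive R₀ (SubMulAction.ofStabilizer G a) :=
    Perm.isPretransitive_of_normal_ne_bot hR₀0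
  rcases Perm.burnside_minimal_normal hGa hR₀0 hR₀min with ⟨hc, ⟨p, hp, hexp⟩, hreg⟩ | ⟨hs, hprim, hnr⟩
  · left
    refine ⟨R₀.map (stabilizer G a).subtype, p, ?_, ⟨Subgroup.map_subtype_le _, ?_, ?_, ?_⟩, ?_, hp, ?_⟩
    · rintro _ ⟨r, hr, rfl⟩
      exact hR₀le hr
    · rintro g hg _ ⟨r, hr, rfl⟩
      exact ⟨⟨g, hg⟩ * r * ⟨g, hg⟩⁻¹, hR₀n.conj_mem r hr _, rfl⟩
    · intro x y hx hy
      obtain ⟨⟨r, hr⟩, hrx⟩ := hR₀t.exists_smul_eq
        (⟨x, hx⟩ : SubMulAction.ofStabilizer G a) ⟨y, hy⟩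
      exact ⟨(r : G), ⟨r, hr, rfl⟩, congrArg Subtype.val hrx⟩
    · rintro _ ⟨r, hr, rfl⟩ x hx hfix
      have h : (⟨r, hr⟩ : R₀) ∈ stabilizer R₀ (⟨x, hx⟩ : SubMulAction.ofStabilizer G a) :=
        mem_stabilizer_iff.2 (Subtype.ext hfix)
      rw [hreg, Subgroup.mem_bot] at h
      exact congrArg (fun k : R₀ => ((k : stabilizer G a) : G)) h
    · rintro _ ⟨r, hr, rfl⟩ _ ⟨s, hs', rfl⟩
      exact congrArg (fun k : R₀ => ((k : stabilizer G a) : G)) (hc.is_comm.comm ⟨r, hr⟩ ⟨s, hs'⟩)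
    · rintro _ ⟨r, hr, rfl⟩
      exact congrArg (fun k : R₀ => ((k : stabilizer G a) : G)) (hexp ⟨r, hr⟩)
  · right
    refine ⟨R₀, hR₀le, hs, ?_, hprim⟩
    by_contra hcon
    push Not at hcon
    obtain ⟨x, hx⟩ : ∃ x : Ω, x ≠ a := by
      haveI : Nontrivial Ω := Finite.one_lt_card_iff_nontrivial.mp (by omega)
      exact exists_ne a
    exact hnr ⟨x, hx⟩ (Perm.stabilizer_eq_bot_of_isMulCommutative hR₀t ⟨⟨hcon⟩⟩ _)

theorem card_pair_subgroup (N : Subgroup G) (a b : Ω) :
    Nat.card ↥(stabilizer N a ⊓ stabilizer N b) = Nat.card ↥(N ⊓ stabilizer G a ⊓ stabilizer G b) :=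
  Nat.card_congr
    { toFun := fun g => ⟨g.1.1, ⟨g.1.2, g.2.1⟩, g.2.2⟩
      invFun := fun g => ⟨⟨g.1, g.2.1.1⟩, g.2.1.2, g.2.2⟩
      left_inv := fun _ => rfl
      right_inv := fun _ => rfl }

/-- A semiregular two-point stabiliser makes `N` a Zassenhaus group. -/
theorem zassenhaus_of_semiregular (h3 : IsMultiplyPretransitive G Ω 3) (hdvd : 3 ∣ Nat.card Ω)
    (hcard : 3 < Nat.card Ω) (hab : a ≠ b) (N : Subgroup G) [N.Normal] (hN : N ≠ ⊥)
    (hsr : ∀ g ∈ N ⊓ stabilizer G a ⊓ stabilizer G b, ∀ c : Ω, c ≠ a → c ≠ b → g • c = c → g = 1) :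
    Cfsg.IsZassenhausGroup N Ω := by
  classical
  cases nonempty_fintype Ω
  have hN2 := two_trans_of_normal h3 hdvd hcard N hN
  have hG2 : IsMultiplyPretransitive G Ω 2 :=
    isMultiplyPretransitive_of_le (n := 3) (by omega) hcard.le
  haveI := isPreprimitive_of_is_two_pretransitive hG2
  have hthree : ∀ g : N, ∀ x y z : Ω, x ≠ y → y ≠ z → x ≠ z →
      g • x = x → g • y = y → g • z = z → g = 1 := by
    intro g x y z hxy hyz hxz hx hy hz
    obtain ⟨k, hkx, hky⟩ := is_two_pretransitive_iff.mp hN2 hxy hab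
    have hconj : ∀ w : Ω, g • w = w → (k * g * k⁻¹) • (k • w) = k • w := fun w hw => by
      rw [mul_smul, mul_smul, inv_smul_smul, hw]
    have h1 := hsr ((k * g * k⁻¹ : N) : G)
      ⟨⟨(k * g * k⁻¹ : N).2, hkx ▸ hconj x hx⟩, hky ▸ hconj y hy⟩ (k • z)
      (fun e => hxz.symm (MulAction.injective k (e.trans hkx.symm)))
      (fun e => hyz.symm (MulAction.injective k (e.trans hky.symm)))
      (hconj z hz)
    exact conj_eq_one_iff.1 (Subtype.ext h1 : k * g * k⁻¹ = 1)
  have hfix : ∃ g : N, g ≠ 1 ∧ ∃ x y : Ω, x ≠ y ∧ g • x = x ∧ g • y = y := by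
    by_contra hcon
    push Not at hcon
    have hs : ∀ g ∈ N, ∀ x y : Ω, x ≠ y → g • x = x → g • y = y → g = 1 := fun g hg x y hxy hx hy => by
      by_contra hg1
      exact hcon ⟨g, hg⟩ (fun e => hg1 (congrArg Subtype.val e)) x y hxy hx hy
    obtain ⟨p, j, T, -, -, -, -, hTn, -, -, hTt, hTs, -⟩ := Perm.exists_regular_of_frobenius_normal
      (by omega) hG2 (Perm.isPretransitive_of_normal_ne_bot hN) hs
    haveI := hTn
    exact regular_false h3 hdvd hcard T hTt hTs
  refine ⟨inferInstance, hN2, hthree, hfix, fun M hMn hMt => ?_⟩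
  by_contra hreg
  push Not at hreg
  haveI := hMn
  obtain ⟨q, -, hq⟩ := S0341.result hN2 hthree hfix M hMt hreg
  rw [Nat.card_eq_fintype_card, hq] at hdvd
  exact absurd ((Nat.prime_dvd_prime_iff_eq Nat.prime_three Nat.prime_two).1
    (Nat.prime_three.dvd_of_dvd_pow hdvd)) (by norm_num)

/-- The hypotheses for the regular subgroup seen inside `N`. -/
theorem kernel_data (N : Subgroup G) {R : Subgroup G} (hR : RegPoint a R) (hab : a ≠ b) (hRN : R ≤ N)
    (hcomm : ∀ x ∈ R, ∀ y ∈ R, x * y = y * x) :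
    R.subgroupOf N ≤ stabilizer N a ∧ Nat.card (R.subgroupOf N) + 1 = Nat.card Ω ∧
      (∀ t ∈ stabilizer N a, ∀ u ∈ R.subgroupOf N, t * u * t⁻¹ ∈ R.subgroupOf N) ∧
      (∀ u ∈ R.subgroupOf N, u ≠ 1 → ∀ c : Ω, u • c = c → c = a) ∧
      ∀ u ∈ R.subgroupOf N, ∀ w ∈ R.subgroupOf N, u * w = w * u := by
  refine ⟨fun u hu => hR.le hu, ?_, fun t ht u hu => hR.norm t ht u hu, fun u hu hu1 c hc => ?_,
    fun u hu w hw => Subtype.ext (hcomm u hu w hw)⟩
  · rw [Nat.card_congr (Subgroup.subgroupOfEquivOfLe hRN).toEquiv]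
    exact card_regPoint hR hab
  · by_contra hca
    exact hu1 (Subtype.ext (hR.free u hu c hca hc))

/-- The irreducible case: two-point stabilisers of order prime to three. -/
theorem twoOrb_of_three_prime (h3 : IsMultiplyPretransitive G Ω 3) (hdvd : 3 ∣ Nat.card Ω)
    (hcard : 3 < Nat.card Ω) (hev : Even (Nat.card Ω)) (hab : a ≠ b)
    (N : Subgroup G) [N.Normal] (hN : N ≠ ⊥)
    (hmin : ∀ M : Subgroup G, M.Normal → M ≤ N → M = ⊥ ∨ M = N)
    (h3X : ¬ 3 ∣ Nat.card ↥(N ⊓ stabilizer G a ⊓ stabilizer G b)) : TwoOrb N a b := by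
  classical
  cases nonempty_fintype Ω
  have hN2 := two_trans_of_normal h3 hdvd hcard N hN
  rcases regPoint_or_simple h3 hdvd hcard a N hN with
    ⟨R, p, hRN, hR, hcomm, hp, hexp⟩ | ⟨T, hTN, hTs, hTnc, hTp⟩
  · have hsr := semiregular_two_point h3 hdvd hcard hev hab N hN hmin hR hcomm hp hexp (Or.inl h3X)
    have hZ := zassenhaus_of_semiregular h3 hdvd hcard hab N hN hsr
    obtain ⟨hHa, hHcard, -, hHfix, hHcomm⟩ := kernel_data N hR hab hRN hcomm
    have hb := Zassenhaus.abelian_bound hZ hab (R.subgroupOf N) hHa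
      (by rw [hHcard, Nat.card_eq_fintype_card]) hHfix hHcomm
    rw [card_pair_subgroup, ← Nat.card_eq_fintype_card] at hb
    intro c d e hca hcb hda hdb hea heb
    by_contra hcon
    rw [not_or, not_or] at hcon
    set X := N ⊓ stabilizer G a ⊓ stabilizer G b
    let w : Fin 3 → Ω := ![c, d, e]
    have hw : ∀ i, w i ≠ a ∧ w i ≠ b := by
      intro i; fin_cases i
      exacts [⟨hca, hcb⟩, ⟨hda, hdb⟩, ⟨hea, heb⟩]
    have hsep : ∀ i j, Joined N a b (w i) (w j) → i = j := by
      intro i j h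
      obtain ⟨hcd, hce, hde⟩ := hcon
      fin_cases i <;> fin_cases j
      exacts [rfl, absurd (show Joined N a b c d from h) hcd, absurd (show Joined N a b c e from h) hce,
        absurd (show Joined N a b c d from Joined.symm h) hcd, rfl,
        absurd (show Joined N a b d e from h) hde,
        absurd (show Joined N a b c e from Joined.symm h) hce,
        absurd (show Joined N a b d e from Joined.symm h) hde, rfl]
    let f : Fin 3 × X → {x : Ω // x ∈ ({a, b}ᶜ : Set Ω)} := fun z => ⟨(z.2 : G) • w z.1, by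
      simp only [Set.mem_compl_iff, Set.mem_insert_iff, Set.mem_singleton_iff, not_or]
      exact ⟨fun h => (hw z.1).1 (MulAction.injective (z.2 : G)
          (h.trans (z.2.2.1.2 : (z.2 : G) • a = a).symm)),
        fun h => (hw z.1).2 (MulAction.injective (z.2 : G)
          (h.trans (z.2.2.2 : (z.2 : G) • b = b).symm))⟩⟩
    have hf : Function.Injective f := by
      rintro ⟨i, g⟩ ⟨j, g'⟩ h
      have h' : (g : G) • w i = (g' : G) • w j := congrArg Subtype.val h
      have hmem : (g' : G)⁻¹ * g ∈ X := mul_mem (inv_mem g'.2) g.2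
      have hgw : ((g' : G)⁻¹ * g) • w i = w j := by rw [mul_smul, h', inv_smul_smul]
      obtain rfl := hsep i j ⟨_, hmem.1.1, hmem.1.2, hmem.2, hgw⟩
      exact Prod.ext rfl (Subtype.ext
        (inv_mul_eq_one.1 (hsr _ hmem _ (hw i).1 (hw i).2 hgw)).symm)
    have hle := Nat.card_le_card_of_injective f hf
    rw [Nat.card_prod, Nat.card_eq_fintype_card (α := Fin 3), Fintype.card_fin,
      show Nat.card {x : Ω // x ∈ ({a, b}ᶜ : Set Ω)} = ({a, b}ᶜ : Set Ω).ncard from
        Nat.card_coe_set_eq _, Set.ncard_compl, Set.ncard_pair hab] at hle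
    have : 0 < Nat.card X := Nat.card_pos
    omega
  · refine twoOrb_of_transitive fun c d hca hcb hda hdb => ?_
    haveI := hTs
    have h3T : ¬ 3 ∣ Nat.card T := by
      intro h
      have h' : 3 ∣ Nat.card ↥(N ⊓ stabilizer G a) := h.trans (by
        refine (Subgroup.card_dvd_of_le hTN).trans (dvd_of_eq (Nat.card_congr ?_))
        exact { toFun := fun g => ⟨g.1.1, g.2, g.1.2⟩
                invFun := fun g => ⟨⟨g.1, g.2.2⟩, g.2.1⟩
                left_inv := fun _ => rfl
                right_inv := fun _ => rfl })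
      rw [card_point_eq hN2 hab] at h'
      rcases Nat.prime_three.dvd_mul.1 h' with h' | h'
      · omega
      · exact h3X h'
    have hSz := Goldschmidt.ThreePrime.threePrimeClass_of_criterion Aschbacher.coreFreeCriterion T
      hTnc h3T
    have hY : Nat.card (SubMulAction.ofStabilizer G a) = Nat.card Ω - 1 :=
      SubMulAction.nat_card_ofStabilizer_eq G a
    obtain ⟨g, hgb, hgc⟩ := suzuki_point_transitive hSz
      (by rw [hY]; exact Nat.Even.sub_odd (by omega) hev odd_one) hTp (by omega)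
      (⟨b, hab.symm⟩ : SubMulAction.ofStabilizer G a) ⟨c, hca⟩ ⟨d, hda⟩
      (fun e => hcb (congrArg Subtype.val e)) (fun e => hdb (congrArg Subtype.val e))
    exact ⟨((g : stabilizer G a) : G), hTN g.2, (g : stabilizer G a).2, congrArg Subtype.val hgb,
      congrArg Subtype.val hgc⟩

end Cfsg.Agent.TriplyNormal
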