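import Cfsg.Agent.Lib.Perm.Basic
import Cfsg.Agent.EqLemmas

/-!
A subgroup of the two-point stabiliser generating, with a regular normal subgroup of the point
stabiliser and a swapping element, a normal subgroup.

* `RegPoint` : a regular normal subgroup of a point stabiliser
* `two_point_le_of_abelian_odd`
-/

set_option autoImplicit false
set_option linter.style.haveILetI false
set_option linter.unusedSectionVars false

namespace Cfsg.Agent.TriplyNormal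

open MulAction
open scoped Pointwise

variable {G : Type*} [Group G] [Finite G] {Ω : Type*} [MulAction G Ω]

/-- A normal subgroup of the stabiliser of `a` regular on the other points. -/
structure RegPoint (a : Ω) (R : Subgroup G) : Prop where
  le : R ≤ stabilizer G a
  norm : ∀ g ∈ stabilizer G a, ∀ r ∈ R, g * r * g⁻¹ ∈ R
  trans : ∀ x y : Ω, x ≠ a → y ≠ a → ∃ r ∈ R, r • x = y
  free : ∀ r ∈ R, ∀ x : Ω, x ≠ a → r • x = x → r = 1

variable {a b : Ω} {R : Subgroup G}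

/-- Uniqueness of the decomposition `r l t r'`. -/
theorem decomp_unique (hR : RegPoint a R) (hab : a ≠ b) {t : G} (_hta : t • a = b) (htb : t • b = a)
    {r₁ r₂ r₁' r₂' l l' : G} (h1 : r₁ ∈ R) (h2 : r₂ ∈ R) (h1' : r₁' ∈ R) (h2' : r₂' ∈ R)
    (hl : l ∈ stabilizer G a ⊓ stabilizer G b) (hl' : l' ∈ stabilizer G a ⊓ stabilizer G b)
    (h : r₁ * l * t * r₂ = r₁' * l' * t * r₂') : l = l' := by
  have hfix : ∀ {r l : G}, r ∈ R → l ∈ stabilizer G a ⊓ stabilizer G b → (r * l)⁻¹ • a = a :=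
    fun {r l} hr hl => inv_smul_eq_iff.2 (by rw [mul_smul, hl.1, hR.le hr])
  have hinv : ∀ {r l r' : G}, r ∈ R → l ∈ stabilizer G a ⊓ stabilizer G b →
      (r * l * t * r')⁻¹ • a = r'⁻¹ • b := fun {r l r'} hr hl => by
    rw [mul_inv_rev, mul_inv_rev, mul_smul, mul_smul, hfix hr hl, inv_smul_eq_iff.2 htb.symm]
  have e := hinv (r' := r₂) h1 hl
  rw [h, hinv h1' hl'] at e
  have h22 : r₂ = r₂' := by
    have hfx : (r₂' * r₂⁻¹) • b = b := by rw [mul_smul, ← e, smul_inv_smul]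
    exact (mul_inv_eq_one.1 (hR.free _ (mul_mem h2' (inv_mem h2)) b hab.symm hfx)).symm
  rw [h22] at h
  have h11 : r₁ * l = r₁' * l' := mul_right_cancel (mul_right_cancel h)
  have hr : r₁'⁻¹ * r₁ = l' * l⁻¹ := by
    rw [eq_mul_inv_iff_mul_eq, mul_assoc, h11, inv_mul_cancel_left]
  have hb' : (r₁'⁻¹ * r₁) • b = b := by
    rw [hr, mul_smul, inv_smul_eq_iff.2 (hl.2 : l • b = b).symm]
    exact hl'.2
  rw [hR.free _ (mul_mem (inv_mem h1') h1) b hab.symm hb', eq_comm, mul_inv_eq_one] at hr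
  exact hr.symm

/-- If `W ≤ G_ab` has abelian quotient of odd order, centralised by the swapping elements, the
two-point stabilisers of a minimal normal subgroup lie in `W`. -/
theorem two_point_le_of_abelian_odd [Finite Ω] [FaithfulSMul G Ω]
    (h3 : IsMultiplyPretransitive G Ω 3) (hcard : 3 < Nat.card Ω) (hR : RegPoint a R) (hab : a ≠ b)
    (N : Subgroup G) [hNn : N.Normal] (hN : N ≠ ⊥)
    (hmin : ∀ M : Subgroup G, M.Normal → M ≤ N → M = ⊥ ∨ M = N)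
    (W : Subgroup G) (hWL : W ≤ stabilizer G a ⊓ stabilizer G b)
    (hcomm : ∀ x ∈ stabilizer G a ⊓ stabilizer G b, ∀ y ∈ stabilizer G a ⊓ stabilizer G b,
      x * y * x⁻¹ * y⁻¹ ∈ W)
    (hodd : ∀ x ∈ stabilizer G a ⊓ stabilizer G b, x * x ∈ W → x ∈ W)
    (hswap : ∀ t : G, t • a = b → t • b = a → ∀ x ∈ stabilizer G a ⊓ stabilizer G b,
      t * x * t⁻¹ * x⁻¹ ∈ W) :
    N ⊓ stabilizer G a ⊓ stabilizer G b ≤ W := by
  classical
  set L := stabilizer G a ⊓ stabilizer G b with hL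
  have hG2 : IsMultiplyPretransitive G Ω 2 :=
    isMultiplyPretransitive_of_le (n := 3) (by omega) hcard.le
  -- a swapping element with square in `W`
  obtain ⟨t0, ht0a, ht0b⟩ := is_two_pretransitive_iff.mp hG2 hab hab.symm
  have hsq : t0 * t0 ∈ L := ⟨by
    show (t0 * t0) • a = a
    rw [mul_smul, ht0a, ht0b], by
    show (t0 * t0) • b = b
    rw [mul_smul, ht0b, ht0a]⟩
  obtain ⟨k, j, hj, hord⟩ := Nat.exists_eq_pow_mul_and_not_dvd
    (orderOf_pos (t0 * t0)).ne' 2 (by norm_num)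
  obtain ⟨i, hi⟩ : Odd j := Nat.odd_iff.mpr (Nat.two_dvd_ne_zero.mp hj)
  set t := t0 ^ (2 * i + 1) with ht
  have hta : t • a = b := Perm.pow_two_mul_add_one_smul_of_swap ht0a ht0b i
  have htb : t • b = a := Perm.pow_two_mul_add_one_smul_of_swap ht0b ht0a i
  have htt : t * t ∈ W := by
    have hrepeat : ∀ n : ℕ, ∀ x ∈ L, x ^ 2 ^ n = 1 → x ∈ W := by
      intro n
      induction n with
      | zero => intro x _ h; rw [pow_zero, pow_one] at h; rw [h]; exact one_mem W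
      | succ n ih =>
        intro x hx h
        refine hodd x hx (ih _ (mul_mem hx hx) ?_)
        rw [← pow_two, ← pow_mul, ← pow_succ', h]
    have he : t * t = (t0 * t0) ^ j := by
      rw [ht, ← pow_two, ← pow_two, ← pow_mul, ← pow_mul, hi, mul_comm]
    rw [he]
    refine hrepeat k _ (pow_mem hsq _) ?_
    rw [← pow_mul, mul_comm, ← hord, pow_orderOf_eq_one]
  have htL : ∀ x ∈ L, t * x * t⁻¹ ∈ L := fun x hx => by
    have h := mul_mem (hWL (hswap t hta htb x hx)) hx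
    rwa [inv_mul_cancel_right] at h
  have htL' : ∀ x ∈ L, t⁻¹ * x * t ∈ L := fun x hx => by
    have h := htL x hx
    have h' := mul_mem (mul_mem (inv_mem (hWL htt)) h) (hWL htt)
    rwa [show (t * t)⁻¹ * (t * x * t⁻¹) * (t * t) = t⁻¹ * x * t by group] at h'
  -- the quotient
  let Wn := W.subgroupOf L
  haveI hWn : Wn.Normal := ⟨fun w hw x => by
    rw [Subgroup.mem_subgroupOf] at hw ⊢
    have h := mul_mem (hcomm x x.2 w (hWL hw)) hw
    rw [inv_mul_cancel_right] at h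
    exact h⟩
  let q : L →* L ⧸ Wn := QuotientGroup.mk' Wn
  have hq : ∀ x : L, q x = 1 ↔ (x : G) ∈ W := fun x => (QuotientGroup.eq_one_iff x).trans
    Subgroup.mem_subgroupOf
  have hqc : ∀ x y : L, q x * q y = q y * q x := fun x y => by
    rw [← mul_inv_eq_one, ← map_mul, ← map_mul, ← map_inv, ← map_mul, hq]
    have h := hcomm x x.2 y y.2
    simpa [mul_assoc] using h
  have hqt : ∀ x : L, q ⟨t * x * t⁻¹, htL x x.2⟩ = q x := fun x => by
    rw [← mul_inv_eq_one, ← map_inv, ← map_mul, hq]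
    exact hswap t hta htb x x.2
  have hLR : ∀ l ∈ L, ∀ r ∈ R, l * r * l⁻¹ ∈ R := fun l hl r hr => hR.norm l hl.1 r hr
  -- transitivity of `L` on `R \ {1}`
  have htrans : ∀ r ∈ R, r ≠ 1 → ∀ r' ∈ R, r' ≠ 1 → ∃ l ∈ L, l * r * l⁻¹ = r' := by
    intro r hr hr1 r' hr' hr1'
    have hne : ∀ s ∈ R, s ≠ 1 → s • b ≠ a ∧ s • b ≠ b := fun s hs hs1 =>
      ⟨fun e => hab.symm (MulAction.injective s (e.trans (hR.le hs).symm)),
        fun e => hs1 (hR.free s hs b hab.symm e)⟩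
    obtain ⟨l, hla, hlb, hlc⟩ := Perm.exists_smul_triple h3 hab (hne r hr hr1).1.symm
      (hne r hr hr1).2.symm hab (hne r' hr' hr1').1.symm (hne r' hr' hr1').2.symm
    refine ⟨l, ⟨hla, hlb⟩, ?_⟩
    have hfix : (r'⁻¹ * (l * r * l⁻¹)) • b = b := by
      rw [mul_smul, mul_smul, mul_smul, inv_smul_eq_iff.2 hlb.symm, hlc, inv_smul_smul]
    have := hR.free _ (mul_mem (inv_mem hr') (hLR l ⟨hla, hlb⟩ r hr)) b hab.symm hfix
    exact (inv_mul_eq_one.1 this).symm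
  have hdecomp : ∀ g : G, g • a ≠ a →
      ∃ r₁ ∈ R, ∃ l ∈ L, ∃ r₂ ∈ R, g = r₁ * l * t * r₂ := by
    intro g hg
    have hg' : g⁻¹ • a ≠ a := fun e => hg (inv_smul_eq_iff.1 e).symm
    obtain ⟨r₂, hr₂, hr₂a⟩ := hR.trans _ _ hg' hab.symm
    have hfa : (g * r₂⁻¹ * t⁻¹) • a = a := by
      rw [mul_smul, mul_smul, inv_smul_eq_iff.2 htb.symm, inv_smul_eq_iff.2 hr₂a.symm,
        smul_inv_smul]
    have hfb : (g * r₂⁻¹ * t⁻¹) • b ≠ a := fun e =>
      hab.symm (MulAction.injective _ (e.trans hfa.symm))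
    obtain ⟨r₁, hr₁, hr₁b⟩ := hR.trans b _ hab.symm hfb
    refine ⟨r₁, hr₁, r₁⁻¹ * (g * r₂⁻¹ * t⁻¹), ⟨?_, ?_⟩, r₂, hr₂, by group⟩
    · show (r₁⁻¹ * (g * r₂⁻¹ * t⁻¹)) • a = a
      rw [mul_smul, hfa, inv_smul_eq_iff.2 (hR.le hr₁ : r₁ • a = a).symm]
    · show (r₁⁻¹ * (g * r₂⁻¹ * t⁻¹)) • b = b
      rw [mul_smul, ← hr₁b, inv_smul_smul]
  have hconj_ne : ∀ r ∈ R, r ≠ 1 → (t * r * t⁻¹) • a ≠ a := by
    intro r hr hr1 e
    rw [mul_smul, mul_smul, inv_smul_eq_iff.2 htb.symm] at e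
    exact hr1 (hR.free r hr b hab.symm (MulAction.injective t (e.trans htb.symm)))
  -- the middle term of `t r t⁻¹` is trivial modulo `W`
  have hmid : ∀ r ∈ R, r ≠ 1 → ∀ r₁ ∈ R, ∀ l ∈ L, ∀ r₂ ∈ R,
      t * r * t⁻¹ = r₁ * l * t * r₂ → l ∈ W := by
    intro r hr hr1 r₁ hr₁ l hl r₂ hr₂ he
    have hother : ∀ r' ∈ R, r' ≠ 1 → ∀ s₁ ∈ R, ∀ l' (hl' : l' ∈ L), ∀ s₂ ∈ R,
        t * r' * t⁻¹ = s₁ * l' * t * s₂ → q ⟨l', hl'⟩ = q ⟨l, hl⟩ := by
      intro r' hr' hr1' s₁ hs₁ l' hl' s₂ hs₂ he'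
      obtain ⟨m, hm, hmr⟩ := htrans r hr hr1 r' hr' hr1'
      set m' := t * m * t⁻¹ with hm'
      have hm'L : m' ∈ L := htL m hm
      have he2 : t * r' * t⁻¹ =
          (m' * r₁ * m'⁻¹) * (m' * l * (t * m'⁻¹ * t⁻¹)) * t * (m' * r₂ * m'⁻¹) := by
        calc t * r' * t⁻¹ = m' * (t * r * t⁻¹) * m'⁻¹ := by rw [← hmr, hm']; group
          _ = m' * (r₁ * l * t * r₂) * m'⁻¹ := by rw [he]
          _ = _ := by group
      have hmem : m' * l * (t * m'⁻¹ * t⁻¹) ∈ L := mul_mem (mul_mem hm'L hl) (htL _ (inv_mem hm'L))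
      have heq := decomp_unique hR hab hta htb hs₁ hs₂ (hLR _ hm'L r₁ hr₁) (hLR _ hm'L r₂ hr₂) hl'
        hmem (he'.symm.trans he2)
      subst heq
      rw [show (⟨m' * l * (t * m'⁻¹ * t⁻¹), hl'⟩ : L) =
        (⟨m', hm'L⟩ : L) * ⟨l, hl⟩ * ⟨t * ((⟨m', hm'L⟩⁻¹ : L) : G) * t⁻¹, htL _ (Subtype.prop _)⟩
        from rfl, map_mul, map_mul, hqt, map_inv, hqc ⟨m', hm'L⟩, mul_inv_cancel_right]
    have hs : t⁻¹ * l⁻¹ * t * (t * t)⁻¹ ∈ L :=
      mul_mem (htL' _ (inv_mem hl)) (inv_mem (hWL htt))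
    have he3 : t * r⁻¹ * t⁻¹ = r₂⁻¹ * (t⁻¹ * l⁻¹ * t * (t * t)⁻¹) * t * r₁⁻¹ := by
      calc t * r⁻¹ * t⁻¹ = (t * r * t⁻¹)⁻¹ := by group
        _ = (r₁ * l * t * r₂)⁻¹ := by rw [he]
        _ = _ := by group
    have h1 := hother r⁻¹ (inv_mem hr) (inv_ne_one.2 hr1) _ (inv_mem hr₂) _ hs _ (inv_mem hr₁) he3
    set u : L := ⟨t⁻¹ * l⁻¹ * t, htL' _ (inv_mem hl)⟩
    have h2 : q u = (q ⟨l, hl⟩)⁻¹ := by
      rw [← map_inv, ← hqt u]
      congr 1
      exact Subtype.ext (by show t * (t⁻¹ * l⁻¹ * t) * t⁻¹ = l⁻¹; group)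
    rw [show (⟨t⁻¹ * l⁻¹ * t * (t * t)⁻¹, hs⟩ : L) = u * (⟨t * t, hWL htt⟩ : L)⁻¹ from rfl,
      map_mul, map_inv, (hq ⟨t * t, hWL htt⟩).2 htt, inv_one, mul_one, h2] at h1
    refine hodd l hl ((hq (⟨l, hl⟩ * ⟨l, hl⟩)).1 ?_)
    rw [map_mul]
    exact eq_inv_iff_mul_eq_one.1 h1.symm
  have htW : ∀ w ∈ W, t * w * t⁻¹ ∈ W := fun w hw => by
    have h := mul_mem (hswap t hta htb w (hWL hw)) hw
    rwa [inv_mul_cancel_right] at h
  -- the generated subgroup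
  let S : Set G := {g | (∃ r ∈ R, ∃ w ∈ W, g = r * w) ∨
    ∃ r ∈ R, ∃ w ∈ W, ∃ r' ∈ R, g = r * w * t * r'}
  have hW' : ∀ w ∈ W, ∀ r ∈ R, w * r * w⁻¹ ∈ R := fun w hw r hr => hLR w (hWL hw) r hr
  have hmulW : ∀ s ∈ S, ∀ w ∈ W, s * w ∈ S := by
    rintro s (⟨r, hr, w₀, hw₀, rfl⟩ | ⟨r, hr, w₀, hw₀, r', hr', rfl⟩) w hw
    · exact Or.inl ⟨r, hr, w₀ * w, mul_mem hw₀ hw, by group⟩
    · exact Or.inr ⟨r, hr, w₀ * (t * w * t⁻¹), mul_mem hw₀ (htW w hw), w⁻¹ * r' * (w⁻¹)⁻¹,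
        hW' _ (inv_mem hw) _ hr', by group⟩
  have hmulR : ∀ s ∈ S, ∀ r'' ∈ R, s * r'' ∈ S := by
    rintro s (⟨r, hr, w₀, hw₀, rfl⟩ | ⟨r, hr, w₀, hw₀, r', hr', rfl⟩) r'' hr''
    · exact Or.inl ⟨r * (w₀ * r'' * w₀⁻¹), mul_mem hr (hW' _ hw₀ _ hr''), w₀, hw₀, by group⟩
    · exact Or.inr ⟨r, hr, w₀, hw₀, r' * r'', mul_mem hr' hr'', by group⟩
  have hRmul : ∀ r'' ∈ R, ∀ s ∈ S, r'' * s ∈ S := by
    rintro r'' hr'' s (⟨r, hr, w₀, hw₀, rfl⟩ | ⟨r, hr, w₀, hw₀, r', hr', rfl⟩)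
    · exact Or.inl ⟨r'' * r, mul_mem hr'' hr, w₀, hw₀, by group⟩
    · exact Or.inr ⟨r'' * r, mul_mem hr'' hr, w₀, hw₀, r', hr', by group⟩
  have hWmul : ∀ w ∈ W, ∀ s ∈ S, w * s ∈ S := by
    rintro w hw s (⟨r, hr, w₀, hw₀, rfl⟩ | ⟨r, hr, w₀, hw₀, r', hr', rfl⟩)
    · exact Or.inl ⟨w * r * w⁻¹, hW' _ hw _ hr, w * w₀, mul_mem hw hw₀, by group⟩
    · exact Or.inr ⟨w * r * w⁻¹, hW' _ hw _ hr, w * w₀, mul_mem hw hw₀, r', hr', by group⟩
  have h1S : (1 : G) ∈ S := Or.inl ⟨1, R.one_mem, 1, W.one_mem, (one_mul 1).symm⟩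
  have htRt : ∀ r ∈ R, t * r * t⁻¹ ∈ S := by
    intro r hr
    rcases eq_or_ne r 1 with rfl | hr1
    · rw [mul_one, mul_inv_cancel]; exact h1S
    obtain ⟨r₁, hr₁, l, hl, r₂, hr₂, he⟩ := hdecomp _ (hconj_ne r hr hr1)
    exact Or.inr ⟨r₁, hr₁, l, hmid r hr hr1 r₁ hr₁ l hl r₂ hr₂ he, r₂, hr₂, he⟩
  have htmul : ∀ s ∈ S, t * s ∈ S := by
    rintro s (⟨r, hr, w, hw, rfl⟩ | ⟨r, hr, w, hw, r', hr', rfl⟩)
    · rcases eq_or_ne r 1 with rfl | hr1
      · exact Or.inr ⟨1, R.one_mem, t * w * t⁻¹, htW w hw, 1, R.one_mem, by group⟩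
      obtain ⟨r₁, hr₁, l, hl, r₂, hr₂, he⟩ := hdecomp _ (hconj_ne r hr hr1)
      have hlW := hmid r hr hr1 r₁ hr₁ l hl r₂ hr₂ he
      have hcalc : t * (r * w) =
          r₁ * (l * ((t * r₂ * t⁻¹) * (t * (t * w * t⁻¹) * t⁻¹ * (t * t)))) := by
        calc t * (r * w) = (t * r * t⁻¹) * (t * w * t⁻¹) * t := by group
          _ = (r₁ * l * t * r₂) * (t * w * t⁻¹) * t := by rw [he]
          _ = _ := by group
      rw [hcalc]
      exact hRmul _ hr₁ _ (hWmul _ hlW _ (hmulW _ (htRt _ hr₂) _ (mul_mem (htW _ (htW w hw)) htt)))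
    · have hcalc : t * (r * w * t * r') = (t * r * t⁻¹) * ((t * w * t⁻¹) * (t * t)) * r' := by group
      rw [hcalc]
      exact hmulR _ (hmulW _ (htRt r hr) _ (mul_mem (htW w hw) htt)) _ hr'
  let M := Subgroup.closure ((R : Set G) ∪ (W : Set G) ∪ {t})
  have hMS : M ≤ stabilizer G S := by
    rw [Subgroup.closure_le]
    intro g hg
    rw [SetLike.mem_coe, mem_stabilizer_set' (Set.toFinite S)]
    intro s hs
    rcases hg with (hg | hg) | hg
    · exact hRmul g hg s hs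
    · exact hWmul g hg s hs
    · rw [Set.mem_singleton_iff] at hg
      rw [hg]
      exact htmul s hs
  have hMW : M ⊓ L ≤ W := by
    rintro g ⟨hgM, hga, hgb⟩
    have hgS : g ∈ S := by
      have h := (mem_stabilizer_set' (Set.toFinite S)).1 (hMS hgM) h1S
      rwa [smul_eq_mul, mul_one] at h
    rcases hgS with ⟨r, hr, w, hw, rfl⟩ | ⟨r, hr, w, hw, r', hr', rfl⟩
    · replace hgb : (r * w) • b = b := hgb
      rw [mul_smul, (hWL hw).2] at hgb
      rw [hR.free r hr b hab.symm hgb, one_mul]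
      exact hw
    · exfalso
      replace hga : (r * w * t * r') • a = a := hga
      rw [mul_smul, mul_smul, mul_smul, hR.le hr', hta,
        (hWL hw).2] at hga
      exact hab.symm (MulAction.injective r (hga.trans (hR.le hr).symm))
  have hRM : R ≤ M := fun r hr => Subgroup.subset_closure (Or.inl (Or.inl hr))
  have hWM : W ≤ M := fun w hw => Subgroup.subset_closure (Or.inl (Or.inr hw))
  have htM : t ∈ M := Subgroup.subset_closure (Or.inr rfl)
  have hLM : ∀ l ∈ L, ∀ g ∈ M, l * g * l⁻¹ ∈ M := by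
    intro l hl
    have hle : M ≤ M.comap (MulAut.conj l).toMonoidHom := by
      rw [Subgroup.closure_le]
      rintro g ((hg | hg) | hg)
      · exact hRM (hLR l hl g hg)
      · have h := mul_mem (hcomm l hl g (hWL hg)) hg
        rw [inv_mul_cancel_right] at h
        exact hWM h
      · rw [Set.mem_singleton_iff] at hg
        subst hg
        show l * t * l⁻¹ ∈ M
        have h1 : q ⟨l * (t * l⁻¹ * t⁻¹), mul_mem hl (htL _ (inv_mem hl))⟩ = 1 := by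
          rw [show (⟨l * (t * l⁻¹ * t⁻¹), mul_mem hl (htL _ (inv_mem hl))⟩ : L) =
            (⟨l, hl⟩ : L) * ⟨t * ((⟨l, hl⟩⁻¹ : L) : G) * t⁻¹, htL _ (Subtype.prop _)⟩ from rfl,
            map_mul, hqt, map_inv, mul_inv_cancel]
        have h2 : l * t * l⁻¹ = (l * (t * l⁻¹ * t⁻¹)) * t := by group
        rw [h2]
        exact mul_mem (hWM ((hq _).1 h1)) htM
    exact fun g hg => hle hg
  have hMn : M.Normal := ⟨fun g hg x => by
    by_cases hx : x • a = a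
    · obtain ⟨r, hr, hrb⟩ := hR.trans b (x • b) hab.symm
        (fun e => hab.symm (MulAction.injective x (e.trans hx.symm)))
      have hl : r⁻¹ * x ∈ L := ⟨by
        show (r⁻¹ * x) • a = a
        rw [mul_smul, hx, inv_smul_eq_iff.2 (hR.le hr : r • a = a).symm], by
        show (r⁻¹ * x) • b = b
        rw [mul_smul, ← hrb, inv_smul_smul]⟩
      have h := mul_mem (mul_mem (hRM hr) (hLM _ hl g hg)) (inv_mem (hRM hr))
      rwa [show r * (r⁻¹ * x * g * (r⁻¹ * x)⁻¹) * r⁻¹ = x * g * x⁻¹ by group] at h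
    · obtain ⟨r₁, hr₁, l, hl, r₂, hr₂, rfl⟩ := hdecomp x hx
      have h0 : t * r₂ * g * r₂⁻¹ * t⁻¹ ∈ M :=
        mul_mem (mul_mem (mul_mem (mul_mem htM (hRM hr₂)) hg) (inv_mem (hRM hr₂))) (inv_mem htM)
      have h := mul_mem (mul_mem (hRM hr₁) (hLM l hl _ h0)) (inv_mem (hRM hr₁))
      rwa [show r₁ * (l * (t * r₂ * g * r₂⁻¹ * t⁻¹) * l⁻¹) * r₁⁻¹ =
        r₁ * l * t * r₂ * g * (r₁ * l * t * r₂)⁻¹ by group] at h⟩
  have hNM : N ≤ M := by
    rcases hmin (N ⊓ M) inferInstance inf_le_left with h | h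
    · exfalso
      haveI := isPreprimitive_of_is_two_pretransitive hG2
      have hNt : IsPretransitive N Ω := Perm.isPretransitive_of_normal_ne_bot hN
      have hs := Perm.stabilizer_eq_bot_of_commute_of_transitive (M := N) (C := M) hNt
        (fun n hn m hm => Subgroup.commute_of_normal_of_disjoint N M hNn hMn
          (disjoint_iff.2 h) n m hn hm) a
      obtain ⟨c, hc⟩ : ∃ c : Ω, c ≠ a ∧ c ≠ b := by
        by_contra hcon
        push Not at hcon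
        have : Nat.card Ω ≤ 2 := by
          classical
          cases nonempty_fintype Ω
          rw [Nat.card_eq_fintype_card]
          calc Fintype.card Ω ≤ ({a, b} : Finset Ω).card := Finset.card_le_card fun x _ => by
                by_cases hxa : x = a
                · simp [hxa]
                · simp [hcon x hxa]
            _ ≤ 2 := Finset.card_le_two
        omega
      obtain ⟨r, hr, hrb⟩ := hR.trans b c hab.symm hc.1
      have h1 : (⟨r, hRM hr⟩ : M) ∈ stabilizer M a := mem_stabilizer_iff.2 (hR.le hr)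
      rw [hs, Subgroup.mem_bot] at h1
      have h2 : r = 1 := congrArg Subtype.val h1
      rw [h2, one_smul] at hrb
      exact hc.2 hrb.symm
    · exact inf_eq_left.1 h
  exact fun g hg => hMW ⟨hNM hg.1.1, hg.1.2, hg.2⟩

end Cfsg.Agent.TriplyNormal
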