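import Cfsg.Agent.Lib.ThreePrime.Singer
import Cfsg.Agent.EqLemmas
import Mathlib.FieldTheory.Finite.Basic
import Mathlib.LinearAlgebra.Determinant
import Mathlib.GroupTheory.Sylow
import Mathlib.GroupTheory.Nilpotent
import Mathlib.GroupTheory.Abelianization.Defs

/-!
Linear groups of odd dimension containing an element of primitive prime order.

* `Ctx` : the setting
* `Ctx.commute_of_normalizes` : such an element centralises every prime power subgroup it normalises
* `Ctx.not_inverted` : such an element is not conjugate to its inverse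
-/

set_option autoImplicit false
set_option linter.style.haveILetI false
set_option linter.unusedSectionVars false

namespace Cfsg.Agent.TriplyNormal

open Module ThreePrime

variable {p : ℕ} [hp : Fact p.Prime] {V : Type*} [AddCommGroup V] [Module (ZMod p) V] [Finite V]
  {L : Type*} [Group L] [Finite L]

/-- A linear group of odd dimension `e > 1` in odd characteristic, with a primitive prime `ℓ`. -/
structure Ctx (ρ : L →* Module.End (ZMod p) V) (e ℓ : ℕ) : Prop where
  inj : Function.Injective ρ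
  cardV : Nat.card V = p ^ e
  ppd : Ppd p e ℓ
  odd : Odd e
  one_lt : 1 < e
  ne_two : p ≠ 2

namespace Ctx

variable {ρ : L →* Module.End (ZMod p) V} {e ℓ : ℕ} (C : Ctx ρ e ℓ) {a : L} (ha : orderOf a = ℓ)

include C

theorem finrank_eq : finrank (ZMod p) V = e := by
  haveI : Module.Finite (ZMod p) V := Module.Finite.of_finite
  have h := Module.natCard_eq_pow_finrank (K := ZMod p) (V := V)
  rw [C.cardV, Nat.card_zmod] at h
  exact (Nat.pow_right_injective hp.out.two_le h).symm

theorem dvd_sub_one : e ∣ ℓ - 1 := C.ppd.dvd_sub_one hp.out (by have := C.one_lt; omega)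

theorem not_fermat (j : ℕ) : ℓ ≠ 2 ^ j + 1 := by
  intro h
  have hd := C.dvd_sub_one
  rw [h, Nat.add_sub_cancel] at hd
  obtain ⟨i, -, hi⟩ := (Nat.dvd_prime_pow Nat.prime_two).1 hd
  have he := C.odd
  rw [hi] at he
  rcases Nat.eq_zero_or_pos i with h0 | h0
  · have := C.one_lt
    rw [hi, h0, pow_zero] at this
    omega
  · exact Nat.not_even_iff_odd.2 he ((Nat.even_pow' h0.ne').2 even_two)

theorem lt_prime : 2 * e < ℓ := by
  obtain ⟨k, hk⟩ := C.dvd_sub_one
  have h2 := C.ppd.prime.two_le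
  have he := C.one_lt
  have hk1 : k ≠ 1 := by
    rintro rfl
    rw [mul_one] at hk
    have ho := C.odd
    rw [← hk] at ho
    rcases C.ppd.prime.eq_two_or_odd with h | h
    · omega
    · rw [Nat.odd_iff] at ho; omega
  rcases k with _ | _ | k
  · omega
  · exact absurd rfl hk1
  · have : e * (k + 1 + 1) = e * k + 2 * e := by ring
    omega

include ha

theorem rho_pow : ρ a ^ ℓ = 1 := by rw [← map_pow, ← ha, pow_orderOf_eq_one, map_one]

theorem rho_ne_one : ρ a ≠ 1 := fun h => C.ppd.prime.ne_one (by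
  rw [← ha, C.inj (h.trans (map_one ρ).symm), orderOf_one])

/-- Elements commuting with one of primitive prime order fix no non-zero vector. -/
theorem eq_one_of_fixed {g : L} (hc : Commute a g) {v : V} (hv : v ≠ 0) (hfix : ρ g v = v) :
    g = 1 := by
  have hcomm : Commute (ρ a) (ρ g - 1) := (hc.map ρ).sub_right (Commute.one_right _)
  rcases C.ppd.injective_or_zero C.cardV (C.rho_pow ha) (C.rho_ne_one ha) hcomm with h | h
  · exact C.inj (by rw [map_one]; exact sub_eq_zero.1 h)
  · refine absurd (h ?_) hv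
    rw [LinearMap.sub_apply, Module.End.one_apply, hfix, sub_self, map_zero]

theorem commute_centralized {g h : L} (hg : Commute a g) (hh : Commute a h) : Commute g h :=
  C.inj (by
    rw [map_mul, map_mul]
    exact C.ppd.commute_of_commute C.cardV (C.rho_pow ha) (C.rho_ne_one ha) (hg.map ρ) (hh.map ρ))

theorem isCyclic_of_centralized {H : Subgroup L} (hH : ∀ g ∈ H, Commute a g) : IsCyclic H :=
  C.ppd.isCyclic_of_commute C.cardV (C.rho_pow ha) (C.rho_ne_one ha) (ρ.comp H.subtype)
    (C.inj.comp H.subtype_injective) fun b => (hH b b.2).map ρ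

theorem commute_of_normalizes {s : ℕ} (hs : s.Prime) (S : Subgroup L) (hS : IsPGroup s S)
    (han : a ∈ Subgroup.normalizer (S : Set L)) : ∀ g ∈ S, Commute a g := by
  let A := Subgroup.normalizer (S : Set L)
  have hle : S ≤ A := Subgroup.le_normalizer
  haveI hN : (S.subgroupOf A).Normal := Subgroup.normal_in_normalizer
  have ha' : orderOf (⟨a, han⟩ : A) = ℓ := by rw [← Subgroup.orderOf_coe, ha]
  rcases C.ppd.commute_or_fermat (ρ.comp A.subtype) C.cardV (C.inj.comp A.subtype_injective) ha' hs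
    (S.subgroupOf A) (hS.of_equiv (Subgroup.subgroupOfEquivOfLe hle).symm) with h | ⟨-, -, ⟨j, hj⟩, -⟩
  · intro g hg
    exact (h ⟨g, hle hg⟩ (Subgroup.mem_subgroupOf.2 hg)).map A.subtype
  · exact absurd hj (C.not_fermat j)

theorem commute_of_nilpotent_normal (N : Subgroup L) [hN : N.Normal] [Group.IsNilpotent N] :
    ∀ g ∈ N, Commute a g := by
  let T := (Subgroup.centralizer ({a} : Set L)).subgroupOf N
  suffices hT : T = ⊤ by
    intro g hg
    have h : (⟨g, hg⟩ : N) ∈ T := hT ▸ Subgroup.mem_top _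
    exact Subgroup.mem_centralizer_singleton_iff.1 (Subgroup.mem_subgroupOf.1 h) |>.symm
  rw [← Subgroup.index_eq_one]
  by_contra hi
  obtain ⟨s, hs, hsd⟩ := Nat.exists_prime_and_dvd hi
  haveI := Fact.mk hs
  obtain ⟨P⟩ : Nonempty (Sylow s N) := inferInstance
  haveI : (P : Subgroup N).Characteristic := P.characteristic_of_normal inferInstance
  haveI : ((P : Subgroup N).map N.subtype).Normal := ConjAct.normal_of_characteristic_of_normal
  have hle : (P : Subgroup N) ≤ T := by
    intro x hx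
    rw [Subgroup.mem_subgroupOf, Subgroup.mem_centralizer_singleton_iff]
    exact (C.commute_of_normalizes ha hs _ (P.2.map N.subtype)
      (by rw [Subgroup.normalizer_eq_top]; exact Subgroup.mem_top a) x
      ⟨x, hx, rfl⟩).eq.symm
  exact P.not_dvd_index (hsd.trans (Subgroup.index_dvd_of_le hle))

/-- An element of primitive prime order is not inverted in a group of odd dimension. -/
theorem not_inverted {g : L} : g * a * g⁻¹ ≠ a⁻¹ := by
  intro hg
  have haρ := C.rho_pow ha
  have ha1 := C.rho_ne_one ha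
  let S := Subring.centralizer ({ρ a} : Set (Module.End (ZMod p) V))
  haveI : IsDomain S := C.ppd.centralizer_isDomain C.cardV haρ ha1
  haveI : Finite (Module.End (ZMod p) V) := Finite.of_injective _ DFunLike.coe_injective
  letI : Field S := (Finite.isDomain_to_isField S).toField
  haveI : Fintype S := Fintype.ofFinite S
  -- conjugation by `g`
  have hinv : ∀ {h : L}, Commute a h → Commute a⁻¹ h := fun h => h.inv_left
  have hmem : ∀ φ ∈ S, ρ g * φ * ρ g⁻¹ ∈ S := by
    intro φ hφ
    rw [Subring.mem_centralizer_iff]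
    intro x hx
    rw [Set.mem_singleton_iff.1 hx]
    have hφ' : Commute (ρ a⁻¹) φ := by
      refine Commute.symm ?_
      have h1 : Commute φ (ρ a) := (Subring.mem_centralizer_iff.1 hφ _ rfl).symm
      rw [show a⁻¹ = a ^ (ℓ - 1) from ?_, map_pow]
      · exact h1.pow_right _
      · rw [eq_comm, ← mul_eq_one_iff_eq_inv, ← pow_succ, Nat.sub_add_cancel C.ppd.prime.one_le,
          ← ha, pow_orderOf_eq_one]
    have hA : ρ a = ρ g * ρ a⁻¹ * ρ g⁻¹ := by
      rw [← map_mul, ← map_mul]
      congr 1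
      calc a = (g * a * g⁻¹)⁻¹ := by rw [hg, inv_inv]
        _ = g * a⁻¹ * g⁻¹ := by group
    have hgg : ρ g⁻¹ * ρ g = 1 := by rw [← map_mul, inv_mul_cancel, map_one]
    rw [hA]
    simp only [mul_assoc]
    rw [← mul_assoc (ρ g⁻¹) (ρ g), hgg, one_mul, ← mul_assoc (ρ g⁻¹) (ρ g), hgg, one_mul,
      ← mul_assoc (ρ a⁻¹) φ, hφ'.eq, mul_assoc]
  have hgg : ρ g⁻¹ * ρ g = 1 := by rw [← map_mul, inv_mul_cancel, map_one]
  have hgg' : ρ g * ρ g⁻¹ = 1 := by rw [← map_mul, mul_inv_cancel, map_one]
  let σ : S →+* S :=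
    { toFun := fun φ => ⟨ρ g * φ * ρ g⁻¹, hmem φ φ.2⟩
      map_one' := Subtype.ext (by
        show ρ g * 1 * ρ g⁻¹ = 1
        rw [mul_one, hgg'])
      map_mul' := fun x y => Subtype.ext (by
        show ρ g * (x * y : Module.End (ZMod p) V) * ρ g⁻¹ =
          (ρ g * x * ρ g⁻¹) * (ρ g * y * ρ g⁻¹)
        simp only [mul_assoc]
        rw [← mul_assoc (ρ g⁻¹) (ρ g), hgg, one_mul])
      map_zero' := Subtype.ext (by
        show ρ g * 0 * ρ g⁻¹ = 0
        rw [mul_zero, zero_mul])
      map_add' := fun x y => Subtype.ext (by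
        show ρ g * (x + y : Module.End (ZMod p) V) * ρ g⁻¹ = _
        rw [mul_add, add_mul]; rfl) }
  have hbij : Function.Bijective σ := Finite.injective_iff_bijective.1 σ.injective
  haveI : Nontrivial V := Ppd.nontrivial ha1
  haveI : CharP (Module.End (ZMod p) V) p :=
    charP_of_injective_ringHom (FaithfulSMul.algebraMap_injective (ZMod p) _) p
  haveI : CharP S p := ⟨fun x => by
    rw [← CharP.cast_eq_zero_iff (Module.End (ZMod p) V) p x, ← map_natCast S.subtype x]
    exact (map_eq_zero_iff S.subtype Subtype.val_injective).symm⟩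
  letI : Algebra (ZMod p) S := ZMod.algebra S p
  haveI : Module.Finite (ZMod p) S := Module.Finite.of_finite
  let τ : Gal(S/ZMod p) := AlgEquiv.ofRingEquiv (f := RingEquiv.ofBijective σ hbij) fun x =>
    DFunLike.congr_fun (RingHom.ext_zmod (σ.comp (algebraMap (ZMod p) S)) (algebraMap (ZMod p) S)) x
  obtain ⟨n, hn⟩ := (FiniteField.bijective_frobeniusAlgEquivOfAlgebraic_pow (ZMod p) S).2 τ
  let z : S := ⟨ρ a, Subring.mem_centralizer_iff.2 fun x hx => by rw [Set.mem_singleton_iff.1 hx]⟩
  have hz : (σ z : S) = z ^ (p ^ (n : ℕ)) := by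
    have := congrArg (fun f : Gal(S/ZMod p) => f z) hn
    simp only [AlgEquiv.coe_pow, FiniteField.coe_frobeniusAlgEquivOfAlgebraic_iterate,
      ZMod.card] at this
    exact this.symm
  have hkey : a⁻¹ = a ^ (p ^ (n : ℕ)) := by
    refine C.inj ?_
    have h1 := congrArg Subtype.val hz
    rw [Subring.coe_pow] at h1
    rw [map_pow, ← h1, ← hg, map_mul, map_mul]
    rfl
  have h1 : a ^ (p ^ (n : ℕ) + 1) = 1 := by rw [pow_succ, ← hkey, inv_mul_cancel]
  have hdvd : ℓ ∣ p ^ (n : ℕ) + 1 := ha ▸ orderOf_dvd_of_pow_eq_one h1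
  have hd2 : ℓ ∣ p ^ (2 * (n : ℕ)) - 1 := by
    refine hdvd.trans ⟨p ^ (n : ℕ) - 1, ?_⟩
    rw [two_mul, pow_add, ← Nat.mul_self_sub_mul_self_eq, mul_one]
  have hd3 := Nat.dvd_gcd C.ppd.dvd hd2
  rw [Nat.pow_sub_one_gcd_pow_sub_one] at hd3
  have hgp : 0 < Nat.gcd e (2 * (n : ℕ)) := Nat.gcd_pos_of_pos_left _ (by have := C.one_lt; omega)
  have hge : Nat.gcd e (2 * (n : ℕ)) = e := by
    by_contra hne
    exact C.ppd.primitive _ hgp
      (lt_of_le_of_ne (Nat.le_of_dvd (by have := C.one_lt; omega) (Nat.gcd_dvd_left _ _)) hne) hd3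
  have hen : e ∣ (n : ℕ) :=
    (Nat.coprime_two_right.2 C.odd).dvd_of_dvd_mul_left (hge ▸ Nat.gcd_dvd_right _ _)
  have hd4 : ℓ ∣ p ^ (n : ℕ) - 1 := C.ppd.dvd.trans (Nat.pow_sub_one_dvd_pow_sub_one p hen)
  have hd5 : ℓ ∣ 2 := by
    have := Nat.dvd_sub hdvd hd4
    have hp1 : 1 ≤ p ^ (n : ℕ) := Nat.one_le_pow _ _ hp.out.pos
    rwa [show p ^ (n : ℕ) + 1 - (p ^ (n : ℕ) - 1) = 2 by omega] at this
  have h2 : ℓ = 2 := (Nat.prime_dvd_prime_iff_eq C.ppd.prime Nat.prime_two).1 hd5
  exact C.not_fermat 0 (by rw [h2]; rfl)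

/-- A central element of order two acts as `-1`, of determinant `-1`. -/
theorem not_commutator_involution {K : Subgroup L} (hK : ⁅K, K⁆ = K) {c : L} (hcK : c ∈ K)
    (hca : Commute a c) (hc2 : c * c = 1) : c = 1 := by
  by_contra hc1
  have hcomm : Commute (ρ a) (ρ c - 1) := (hca.map ρ).sub_right (Commute.one_right _)
  have hinj : Function.Injective ⇑(ρ c - 1) :=
    (C.ppd.injective_or_zero C.cardV (C.rho_pow ha) (C.rho_ne_one ha) hcomm).resolve_left fun h =>
      hc1 (C.inj (by rw [map_one]; exact sub_eq_zero.1 h))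
  have hneg : ρ c = (-1 : ZMod p) • (1 : Module.End (ZMod p) V) := by
    refine LinearMap.ext fun v => ?_
    have h0 : (ρ c - 1) (ρ c v + v) = 0 := by
      simp only [LinearMap.sub_apply, Module.End.one_apply, map_add]
      rw [← Module.End.mul_apply, ← map_mul, hc2, map_one, Module.End.one_apply]
      abel
    have h := hinj (h0.trans (map_zero _).symm)
    rw [LinearMap.smul_apply, Module.End.one_apply, neg_one_smul]
    exact eq_neg_of_add_eq_zero_left h
  let f : L →* (ZMod p)ˣ := (Units.map LinearMap.det).comp ρ.toHomUnits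
  have hker : K ≤ f.ker := calc
    K = ⁅K, K⁆ := hK.symm
    _ ≤ ⁅(⊤ : Subgroup L), ⊤⁆ := Subgroup.commutator_mono le_top le_top
    _ ≤ f.ker := Abelianization.commutator_subset_ker f
  have h1 : LinearMap.det (ρ c) = 1 := congrArg Units.val (hker hcK)
  rw [hneg, LinearMap.det_smul, map_one, mul_one, C.finrank_eq, C.odd.neg_one_pow] at h1
  exact Ring.neg_one_ne_one_of_char_ne_two (by rw [ZMod.ringChar_zmod_n]; exact C.ne_two) h1

end Ctx

end Cfsg.Agent.TriplyNormal
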