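import Cfsg.Agent.Lib.TriplyNormal.Irreducible
import Cfsg.Agent.Lib.OddOrderTheorem.Basic

/-!
Degree divisible by four: a minimal normal subgroup with two orbits is `PSL₂(q)`.

* `not_joined_swap` : the swapping elements exchange the two orbits
* `psl_of_two_orbits`
-/

set_option autoImplicit false
set_option linter.style.haveILetI false
set_option linter.unusedSectionVars false

namespace Cfsg.Agent.TriplyNormal

open MulAction
open scoped Pointwise

universe u v

variable {G : Type u} [Group G] [Finite G] {Ω : Type v} [MulAction G Ω] [Finite Ω] [FaithfulSMul G Ω]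
  {a b : Ω}

/-- The points joined to `c`. -/
def orbSet (N : Subgroup G) (a b c : Ω) : Set Ω := {x | Joined N a b c x}

theorem orbSet_off (N : Subgroup G) {c : Ω} (hca : c ≠ a) (hcb : c ≠ b) :
    ∀ x ∈ orbSet N a b c, x ≠ a ∧ x ≠ b := by
  rintro _ ⟨g, -, hga, hgb, rfl⟩
  exact ⟨fun e => hca (MulAction.injective g (e.trans hga.symm)),
    fun e => hcb (MulAction.injective g (e.trans hgb.symm))⟩

/-- All orbits have one size. -/
theorem ncard_orbSet_eq (h3 : IsMultiplyPretransitive G Ω 3) (hab : a ≠ b) (N : Subgroup G) [N.Normal]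
    {c d : Ω} (hca : c ≠ a) (hcb : c ≠ b) (hda : d ≠ a) (hdb : d ≠ b) :
    (orbSet N a b d).ncard = (orbSet N a b c).ncard := by
  obtain ⟨g, hga, hgb, hgc⟩ := Perm.exists_smul_triple h3 hab hca.symm hcb.symm hab hda.symm hdb.symm
  have hai : g⁻¹ • a = a := inv_smul_eq_iff.2 hga.symm
  have hbi : g⁻¹ • b = b := inv_smul_eq_iff.2 hgb.symm
  have himg : orbSet N a b d = (fun x => g • x) '' orbSet N a b c := by
    ext y
    constructor
    · rintro ⟨k, hk, hka, hkb, rfl⟩
      refine ⟨g⁻¹ • (k • d), ⟨g⁻¹ * k * g, ?_, ?_, ?_, ?_⟩, smul_inv_smul _ _⟩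
      · simpa using Subgroup.Normal.conj_mem inferInstance k hk g⁻¹
      · rw [mul_smul, mul_smul, hga, hka, hai]
      · rw [mul_smul, mul_smul, hgb, hkb, hbi]
      · rw [mul_smul, mul_smul, hgc]
    · rintro ⟨_, ⟨k, hk, hka, hkb, rfl⟩, rfl⟩
      refine ⟨g * k * g⁻¹, Subgroup.Normal.conj_mem inferInstance k hk g, ?_, ?_, ?_⟩
      · rw [mul_smul, mul_smul, hai, hka, hga]
      · rw [mul_smul, mul_smul, hbi, hkb, hgb]
      · rw [mul_smul, mul_smul, ← hgc, inv_smul_smul]
  rw [himg, Set.ncard_image_of_injective _ (MulAction.injective g)]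

/-- With two orbits, each has half the points. -/
theorem two_mul_ncard_orbSet (h3 : IsMultiplyPretransitive G Ω 3) (hab : a ≠ b) (N : Subgroup G)
    [N.Normal] (htwo : TwoOrb N a b) {c d : Ω} (hca : c ≠ a) (hcb : c ≠ b) (hda : d ≠ a) (hdb : d ≠ b)
    (hcd : ¬ Joined N a b c d) :
    2 * (orbSet N a b c).ncard = Nat.card Ω - 2 ∧
      ({a, b}ᶜ : Set Ω) = orbSet N a b c ∪ orbSet N a b d := by
  have hU : ({a, b}ᶜ : Set Ω) = orbSet N a b c ∪ orbSet N a b d := by
    ext x
    constructor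
    · intro hx
      simp only [Set.mem_compl_iff, Set.mem_insert_iff, Set.mem_singleton_iff, not_or] at hx
      rcases htwo c d x hca hcb hda hdb hx.1 hx.2 with h | h | h
      · exact absurd h hcd
      · exact Or.inl h
      · exact Or.inr h
    · intro hx
      simp only [Set.mem_compl_iff, Set.mem_insert_iff, Set.mem_singleton_iff, not_or]
      rcases hx with hx | hx
      · exact orbSet_off N hca hcb x hx
      · exact orbSet_off N hda hdb x hx
  refine ⟨?_, hU⟩
  have h := congrArg Set.ncard hU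
  have hdis : Disjoint (orbSet N a b c) (orbSet N a b d) := Set.disjoint_left.2 fun x hx hx' =>
    hcd (Joined.trans hx (Joined.symm hx'))
  rw [Set.ncard_compl, Set.ncard_pair hab, Set.ncard_union_eq hdis (Set.toFinite _) (Set.toFinite _),
    ncard_orbSet_eq h3 hab N hca hcb hda hdb] at h
  omega

/-- A swapping element moves every point to the other orbit. -/
theorem not_joined_swap (h3 : IsMultiplyPretransitive G Ω 3) (hfour : Nat.card Ω % 4 = 0)
    (hab : a ≠ b) (N : Subgroup G) [N.Normal] (hN2 : IsMultiplyPretransitive N Ω 2)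
    (htwo : TwoOrb N a b)
    (hne : ∀ c : Ω, c ≠ a → c ≠ b → ∃ d : Ω, d ≠ a ∧ d ≠ b ∧ ¬ Joined N a b c d)
    {u : G} (hu : u ∈ N) (hua : u • a = b) (hub : u • b = a) {c : Ω} (hca : c ≠ a) (hcb : c ≠ b) :
    ¬ Joined N a b c (u • c) := by
  classical
  intro hj
  haveI : Fact (Nat.Prime 2) := ⟨Nat.prime_two⟩
  obtain ⟨d, hda, hdb, hcd⟩ := hne c hca hcb
  obtain ⟨hm, hU⟩ := two_mul_ncard_orbSet h3 hab N htwo hca hcb hda hdb hcd
  have hm' := ncard_orbSet_eq h3 hab N hca hcb hda hdb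
  have hmodd : Odd (orbSet N a b c).ncard := by
    rw [Nat.odd_iff]
    have : 0 < Nat.card Ω := (Nat.card_pos_iff.2 ⟨⟨a⟩, inferInstance⟩)
    omega
  set X := N ⊓ stabilizer G a ⊓ stabilizer G b with hX
  let K : Subgroup G := N ⊓ stabilizer G ({a, b} : Set Ω) ⊓ stabilizer G (orbSet N a b c)
  have hset : ∀ {g : G}, (g • a = a ∧ g • b = b) ∨ (g • a = b ∧ g • b = a) →
      g ∈ stabilizer G ({a, b} : Set Ω) := by
    intro g hg
    rw [mem_stabilizer_set' (Set.toFinite _)]
    rintro x (rfl | rfl) <;> rcases hg with ⟨h1, h2⟩ | ⟨h1, h2⟩ <;> simp_all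
  have hXK : X ≤ K := by
    intro g hg
    refine ⟨⟨hg.1.1, hset (Or.inl ⟨hg.1.2, hg.2⟩)⟩, ?_⟩
    refine (mem_stabilizer_set' (Set.toFinite _)).2 ?_
    exact fun x hx => Joined.trans hx ⟨g, hg.1.1, hg.1.2, hg.2, rfl⟩
  have huK : u ∈ K := by
    refine ⟨⟨hu, hset (Or.inr ⟨hua, hub⟩)⟩, ?_⟩
    refine (mem_stabilizer_set' (Set.toFinite _)).2 ?_
    rintro x ⟨g, hg, hga, hgb, rfl⟩
    refine Joined.trans hj ⟨u * g * u⁻¹, N.mul_mem (N.mul_mem hu hg) (N.inv_mem hu), ?_, ?_, ?_⟩
    · rw [mul_smul, mul_smul, inv_smul_eq_iff.2 hub.symm, hgb, hub]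
    · rw [mul_smul, mul_smul, inv_smul_eq_iff.2 hua.symm, hga, hua]
    · rw [mul_smul, mul_smul, inv_smul_smul]
  have hKcases : ∀ g ∈ K, (g • a = a ∧ g • b = b) ∨ (g • a = b ∧ g • b = a) := by
    intro g hg
    have hga := (mem_stabilizer_set' (Set.toFinite _)).1 hg.1.2 (show a ∈ ({a, b} : Set Ω) from Or.inl rfl)
    have hgb := (mem_stabilizer_set' (Set.toFinite _)).1 hg.1.2 (show b ∈ ({a, b} : Set Ω) from Or.inr rfl)
    rcases hga with h1 | h1 <;> rcases hgb with h2 | h2
    · exact absurd (MulAction.injective g (h1.trans h2.symm)) hab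
    · exact Or.inl ⟨h1, h2⟩
    · exact Or.inr ⟨h1, h2⟩
    · exact absurd (MulAction.injective g (h1.trans h2.symm)) hab
  have hidx : (X.subgroupOf K).index = 2 := by
    rw [Subgroup.index_eq_two_iff]
    refine ⟨⟨u, huK⟩, fun g => ?_⟩
    rcases hKcases g g.2 with ⟨h1, h2⟩ | ⟨h1, h2⟩
    · refine Or.inr ⟨Subgroup.mem_subgroupOf.2 ⟨⟨g.2.1.1, h1⟩, h2⟩, fun h => hab ?_⟩
      have h' : ((g : G) * u) • a = a := (Subgroup.mem_subgroupOf.1 h).1.2
      rw [mul_smul, hua, h2] at h'
      exact h'.symm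
    · refine Or.inl ⟨Subgroup.mem_subgroupOf.2 ⟨⟨N.mul_mem g.2.1.1 hu, ?_⟩, ?_⟩, fun h => hab ?_⟩
      · show ((g : G) * u) • a = a
        rw [mul_smul, hua, h2]
      · show ((g : G) * u) • b = b
        rw [mul_smul, hub, h1]
      · have h' : (g : G) • a = a := (Subgroup.mem_subgroupOf.1 h).1.2
        rw [h1] at h'
        exact h'.symm
  have hKcard : Nat.card K = 2 * Nat.card X := by
    rw [← Subgroup.card_mul_index (X.subgroupOf K), hidx,
      Nat.card_congr (Subgroup.subgroupOfEquivOfLe hXK).toEquiv, mul_comm]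
  obtain ⟨Q⟩ : Nonempty (Sylow 2 K) := inferInstance
  let Q' := (Q : Subgroup K).map K.subtype
  have hQ'K : Q' ≤ K := Subgroup.map_subtype_le _
  have hpres : ∀ q ∈ Q', ∀ x ∈ orbSet N a b c, q • x ∈ orbSet N a b c := fun q hq x hx =>
    (mem_stabilizer_set' (Set.toFinite _)).1 (hQ'K hq).2 hx
  have hpres' : ∀ q ∈ Q', ∀ x ∈ orbSet N a b d, q • x ∈ orbSet N a b d := by
    intro q hq x hx
    obtain ⟨hxa, hxb⟩ := orbSet_off N hda hdb x hx
    have hqx : q • x ∈ ({a, b}ᶜ : Set Ω) := by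
      simp only [Set.mem_compl_iff, Set.mem_insert_iff, Set.mem_singleton_iff, not_or]
      rcases hKcases q (hQ'K hq) with ⟨h1, h2⟩ | ⟨h1, h2⟩
      · exact ⟨fun e => hxa (MulAction.injective q (e.trans h1.symm)),
          fun e => hxb (MulAction.injective q (e.trans h2.symm))⟩
      · exact ⟨fun e => hxb (MulAction.injective q (e.trans h2.symm)),
          fun e => hxa (MulAction.injective q (e.trans h1.symm))⟩
    rw [hU] at hqx
    refine hqx.resolve_left fun h => hcd ?_
    have h1 := hpres q⁻¹ (inv_mem hq) _ h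
    rw [inv_smul_smul] at h1
    exact Joined.trans h1 (Joined.symm hx)
  have hQ2 : IsPGroup 2 Q' := Q.2.map _
  obtain ⟨x, hx, hxfix⟩ := Perm.exists_fixed_of_odd_set hQ2 hmodd hpres
  obtain ⟨y, hy, hyfix⟩ := Perm.exists_fixed_of_odd_set hQ2 (hm'.symm ▸ hmodd) hpres'
  have hxy : x ≠ y := fun e => hcd (Joined.trans hx (e ▸ Joined.symm hy))
  have hle : Q' ≤ N ⊓ stabilizer G x ⊓ stabilizer G y :=
    fun q hq => ⟨⟨(hQ'K hq).1.1, hxfix q hq⟩, hyfix q hq⟩
  have hdvd := Subgroup.card_dvd_of_le hle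
  rw [card_two_point_eq hN2 hab hxy,
    ← Nat.card_congr ((Q : Subgroup K).equivMapOfInjective _ K.subtype_injective).toEquiv,
    Sylow.card_eq_multiplicity, Nat.prime_two.pow_dvd_iff_le_factorization Nat.card_pos.ne', hKcard,
    Nat.factorization_mul (by norm_num) Nat.card_pos.ne', Finsupp.add_apply,
    Nat.prime_two.factorization_self, ← hX] at hdvd
  omega

/-- Degree divisible by four with two orbits: the minimal normal subgroup is `PSL₂`. -/
theorem psl_of_two_orbits (h3 : IsMultiplyPretransitive G Ω 3) (hdvd : 3 ∣ Nat.card Ω)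
    (hcard : 3 < Nat.card Ω) (hfour : Nat.card Ω % 4 = 0) (hab : a ≠ b)
    (N : Subgroup G) [hNn : N.Normal] (hN : N ≠ ⊥)
    (hmin : ∀ M : Subgroup G, M.Normal → M ≤ N → M = ⊥ ∨ M = N)
    (htwo : TwoOrb N a b)
    (hne : ∀ c : Ω, c ≠ a → c ≠ b → ∃ d : Ω, d ≠ a ∧ d ≠ b ∧ ¬ Joined N a b c d) :
    ∃ (F : Type) (_ : Field F) (_ : Fintype F), Fintype.card F + 1 = Nat.card Ω ∧
      Nonempty (N ≃* Matrix.ProjectiveSpecialLinearGroup (Fin 2) F) := by
  classical
  cases nonempty_fintype Ω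
  have hev : Even (Nat.card Ω) := Nat.even_iff.2 (by omega)
  have hN2 := two_trans_of_normal h3 hdvd hcard N hN
  haveI : Fact (Nat.Prime 2) := ⟨Nat.prime_two⟩
  -- the point stabiliser has odd order
  have hodd : Odd (Nat.card ↥(N ⊓ stabilizer G a)) := by
    by_contra heven
    rw [Nat.not_odd_iff_even] at heven
    obtain ⟨⟨s, hsN, hsa⟩, hs⟩ := exists_prime_orderOf_dvd_card' (G := ↥(N ⊓ stabilizer G a)) 2
      heven.two_dvd
    have hs2 : orderOf s = 2 := by rw [← hs, ← Subgroup.orderOf_coe]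
    have hsa' : s • a = a := hsa
    have hpg : IsPGroup 2 (Subgroup.zpowers s) :=
      IsPGroup.of_card (n := 1) (by rw [Nat.card_zpowers, hs2, pow_one])
    have hfixa : ∀ g ∈ Subgroup.zpowers s, g • a = a := fun g hg =>
      (Subgroup.zpowers_le.2 (show s ∈ stabilizer G a from hsa') hg : g ∈ stabilizer G a)
    obtain ⟨e, he, hefix⟩ := Perm.exists_fixed_of_odd_set hpg (S := ({a}ᶜ : Set Ω)) (by
      rw [Set.ncard_compl, Set.ncard_singleton]
      exact Nat.Even.sub_odd (by omega) hev odd_one) (by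
      intro g hg x hx h
      exact hx (MulAction.injective g ((show g • x = a from h).trans (hfixa g hg).symm)))
    have hse : s • e = e := hefix s (Subgroup.mem_zpowers s)
    have hea : e ≠ a := he
    obtain ⟨d, hd⟩ : ∃ d, s • d ≠ d := by
      by_contra h
      push Not at h
      have : s = 1 := FaithfulSMul.eq_of_smul_eq_smul (α := Ω) fun x => by rw [h x, one_smul]
      rw [this, orderOf_one] at hs2
      omega
    have hsd : s • (s • d) = d := by
      rw [← mul_smul, ← pow_two, ← hs2, pow_orderOf_eq_one, one_smul]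
    obtain ⟨⟨k, hk⟩, hkd, hksd⟩ := is_two_pretransitive_iff.mp hN2 (Ne.symm hd) hab
    rw [Subgroup.mk_smul] at hkd hksd
    have hj : (k * s * k⁻¹) • (k • a) = k • a := by rw [mul_smul, mul_smul, inv_smul_smul, hsa']
    have h := not_joined_swap h3 hfour hab N hN2 htwo hne
      (N.mul_mem (N.mul_mem hk hsN) (N.inv_mem hk))
      (show (k * s * k⁻¹) • a = b by rw [← hkd, mul_smul, mul_smul, inv_smul_smul, hksd])
      (show (k * s * k⁻¹) • b = a by rw [← hksd, mul_smul, mul_smul, inv_smul_smul, hsd, hkd])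
      (c := k • a)
      (fun e' => hd (by
        have had : d = a := MulAction.injective k (hkd.trans e'.symm)
        rw [had, hsa']))
      (fun e' => hd (by
        have had : s • d = a := MulAction.injective k (hksd.trans e'.symm)
        rw [had, ← hsd, had, hsa']))
    rw [hj] at h
    exact h (Joined.refl N a b _)
  rcases regPoint_or_simple h3 hdvd hcard a N hN with
    ⟨R, p, hRN, hR, hcomm, hp, hexp⟩ | ⟨T, hTN, hTs, hTnc, -⟩
  swap
  · exfalso
    haveI := hTs
    have hT : Odd (Nat.card T) := Odd.of_dvd_nat hodd (by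
      refine (Subgroup.card_dvd_of_le hTN).trans (dvd_of_eq (Nat.card_congr ?_))
      exact { toFun := fun g => ⟨g.1.1, g.2, g.1.2⟩
              invFun := fun g => ⟨⟨g.1, g.2.2⟩, g.2.1⟩
              left_inv := fun _ => rfl
              right_inv := fun _ => rfl })
    obtain ⟨x, y, hxy⟩ := hTnc
    exact hxy (IsSimpleGroup.comm_iff_isSolvable.2 (OddOrderTheorem.solvable hT) x y)
  set X := N ⊓ stabilizer G a ⊓ stabilizer G b with hX
  have hXodd : Odd (Nat.card X) := Odd.of_dvd_nat hodd (Subgroup.card_dvd_of_le inf_le_left)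
  have hsr := semiregular_two_point h3 hdvd hcard hev hab N hN hmin hR hcomm hp hexp
    (Or.inr (OddOrderTheorem.solvable hXodd))
  have hZ := zassenhaus_of_semiregular h3 hdvd hcard hab N hN hsr
  obtain ⟨hHa, hHcard, hHn, hHfix, hHcomm⟩ := kernel_data N hR hab hRN hcomm
  have hd : Nat.card Ω - 2 = 2 * Nat.card ↥(stabilizer N a ⊓ stabilizer N b) := by
    rw [card_pair_subgroup]
    obtain ⟨c, hca, hcb⟩ : ∃ c : Ω, c ≠ a ∧ c ≠ b := by
      by_contra hcon
      push Not at hcon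
      have : ({a}ᶜ : Set Ω) ⊆ {b} := fun x hx => hcon x hx
      have h := Set.ncard_le_ncard this
      rw [Set.ncard_compl, Set.ncard_singleton, Set.ncard_singleton] at h
      omega
    obtain ⟨d, hda, hdb, hcd⟩ := hne c hca hcb
    obtain ⟨hm, -⟩ := two_mul_ncard_orbSet h3 hab N htwo hca hcb hda hdb hcd
    rw [← hm]
    congr 1
    rw [← Nat.card_coe_set_eq]
    symm
    refine Nat.card_eq_of_bijective
      (fun g : X => (⟨(g : G) • c, g, g.2.1.1, g.2.1.2, g.2.2, rfl⟩ : orbSet N a b c)) ⟨?_, ?_⟩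
    · intro g g' h
      have h' : (g : G) • c = (g' : G) • c := congrArg Subtype.val h
      exact Subtype.ext (inv_mul_eq_one.1 (hsr _ (X.mul_mem (X.inv_mem g'.2) g.2) c hca hcb
        (by rw [mul_smul, h', inv_smul_smul]))).symm
    · rintro ⟨_, g, hg, hga, hgb, rfl⟩
      exact ⟨⟨g, ⟨hg, hga⟩, hgb⟩, rfl⟩
  have hdodd : Odd (Nat.card ↥(stabilizer N a ⊓ stabilizer N b)) := by rwa [card_pair_subgroup]
  have hinv := Zassenhaus.odd_inverted hZ hab (R.subgroupOf N) hHa
    (by rw [hHcard, Nat.card_eq_fintype_card]) hHfix hHcomm hdodd hd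
  obtain ⟨s, hs2, hsa, hsb⟩ := Zassenhaus.exists_involution_swap hZ hab
  obtain ⟨q, f, K, iK, iF, -, -, -, hK, hn, hiso⟩ := Zassenhaus.exists_psl2 hZ hab (R.subgroupOf N)
    hHa hHn (by omega) hHfix hHcomm hd s hsa hsb (by rw [← pow_two, ← hs2, pow_orderOf_eq_one])
    (hinv s hsa hsb)
  exact ⟨K, iK, iF, by rw [hK, hn], hiso⟩

end Cfsg.Agent.TriplyNormal
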