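import Cfsg.Agent.Lib.TriplyNormal.Reduce
import Cfsg.Agent.Lib.TriplyNormal.ModFour

/-!
Normal subgroups of triply transitive groups of degree divisible by three.

* `twoOrb`
* `card_quotient_le_two`
* `three_transitive_or_psl`
-/

set_option autoImplicit false
set_option linter.style.haveILetI false
set_option linter.unusedSectionVars false

namespace Cfsg.Agent.TriplyNormal

open MulAction

universe u v

variable {G : Type u} [Group G] [Finite G] {Ω : Type v} [MulAction G Ω] [Fintype Ω] [FaithfulSMul G Ω]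

theorem twoOrb (h3 : IsMultiplyPretransitive G Ω 3) (hdvd : 3 ∣ Fintype.card Ω)
    (hcard : 3 < Fintype.card Ω) (N : Subgroup G) [N.Normal] (hN : N ≠ ⊥) {a b : Ω} (hab : a ≠ b) :
    TwoOrb N a b := by
  classical
  let φ := MulAction.toPermHom G Ω
  have hinj : Function.Injective φ := MulAction.toPerm_injective
  have h := twoOrb_perm φ.range (N.map φ) hdvd hcard ⟨fun x y => by
      obtain ⟨g, hg⟩ := h3.exists_smul_eq x y
      exact ⟨⟨φ g, g, rfl⟩, hg⟩⟩
    (Subgroup.map_le_range _ _) (by rwa [Ne, Subgroup.map_eq_bot_iff_of_injective _ hinj]) (by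
      rintro _ ⟨g, rfl⟩ _ ⟨m, hm, rfl⟩
      exact ⟨g * m * g⁻¹, Subgroup.Normal.conj_mem inferInstance m hm g, by simp⟩) hab
  have hj : ∀ {c d : Ω}, Joined (N.map φ) a b c d → Joined N a b c d := by
    rintro c d ⟨_, ⟨g, hg, rfl⟩, h1, h2, h3'⟩
    exact ⟨g, hg, h1, h2, h3'⟩
  exact fun c d e hca hcb hda hdb hea heb =>
    (h c d e hca hcb hda hdb hea heb).imp hj (Or.imp hj hj)

theorem card_quotient_le_two (h3 : IsMultiplyPretransitive G Ω 3) (hdvd : 3 ∣ Fintype.card Ω)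
    (hcard : 3 < Fintype.card Ω) (H : Subgroup G) [H.Normal] (hH : H ≠ ⊥) :
    Nat.card (orbitRel.Quotient H (Fin 3 ↪ Ω)) ≤ 2 := by
  classical
  have hdeg : 3 < Nat.card Ω := by rwa [Nat.card_eq_fintype_card]
  have hH2 := two_trans_of_normal h3 (by rwa [Nat.card_eq_fintype_card]) hdeg H hH
  obtain ⟨a, b, hab⟩ := Fintype.exists_pair_of_one_lt_card (show 1 < Fintype.card Ω by omega)
  by_contra hgt
  haveI : Fintype (orbitRel.Quotient H (Fin 3 ↪ Ω)) := Fintype.ofFinite _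
  rw [Nat.card_eq_fintype_card, not_le, Fintype.two_lt_card_iff] at hgt
  obtain ⟨q₁, q₂, q₃, h12, h13, h23⟩ := hgt
  -- a representative starting with `a`, `b`
  have hrep : ∀ q : orbitRel.Quotient H (Fin 3 ↪ Ω), ∃ u : Fin 3 ↪ Ω,
      u 0 = a ∧ u 1 = b ∧ Quotient.mk'' u = q := by
    intro q
    induction q using Quotient.inductionOn' with
    | h u =>
      obtain ⟨k, hk0, hk1⟩ := is_two_pretransitive_iff.mp hH2
        (show u 0 ≠ u 1 from u.injective.ne (by decide)) hab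
      exact ⟨k • u, hk0, hk1, Quotient.sound' ⟨k, rfl⟩⟩
  have hthird : ∀ u : Fin 3 ↪ Ω, u 0 = a → u 1 = b → u 2 ≠ a ∧ u 2 ≠ b := fun u h0 h1 =>
    ⟨fun e => absurd (u.injective (e.trans h0.symm)) (by decide),
      fun e => absurd (u.injective (e.trans h1.symm)) (by decide)⟩
  have heq : ∀ u w : Fin 3 ↪ Ω, u 0 = a → u 1 = b → w 0 = a → w 1 = b →
      Joined H a b (u 2) (w 2) →
      (Quotient.mk'' u : orbitRel.Quotient H (Fin 3 ↪ Ω)) = Quotient.mk'' w := by
    rintro u w hu0 hu1 hw0 hw1 ⟨g, hg, hga, hgb, hgc⟩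
    refine Eq.symm (Quotient.sound' ?_)
    refine ⟨⟨g, hg⟩, ?_⟩
    ext i
    fin_cases i
    · exact (congrArg (g • ·) hu0).trans (hga.trans hw0.symm)
    · exact (congrArg (g • ·) hu1).trans (hgb.trans hw1.symm)
    · exact hgc
  obtain ⟨u, hu0, hu1, rfl⟩ := hrep q₁
  obtain ⟨v', hv0, hv1, rfl⟩ := hrep q₂
  obtain ⟨w, hw0, hw1, rfl⟩ := hrep q₃
  rcases twoOrb h3 hdvd hcard H hH hab (u 2) (v' 2) (w 2) (hthird u hu0 hu1).1 (hthird u hu0 hu1).2
    (hthird v' hv0 hv1).1 (hthird v' hv0 hv1).2 (hthird w hw0 hw1).1 (hthird w hw0 hw1).2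
    with h | h | h
  · exact h12 (heq u v' hu0 hu1 hv0 hv1 h)
  · exact h13 (heq u w hu0 hu1 hw0 hw1 h)
  · exact h23 (heq v' w hv0 hv1 hw0 hw1 h)

theorem three_transitive_or_psl (h3 : IsMultiplyPretransitive G Ω 3) (hdvd : 3 ∣ Fintype.card Ω)
    (hcard : 3 < Fintype.card Ω) (H : Subgroup G) [H.Normal] (hH : H ≠ ⊥)
    (hmod : Fintype.card Ω % 4 ≠ 2) :
    IsMultiplyPretransitive H Ω 3 ∨
      ∃ (N : Subgroup H) (F : Type) (_ : Field F) (_ : Fintype F), N.Normal ∧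
        Fintype.card F + 1 = Fintype.card Ω ∧
        Nonempty (N ≃* Matrix.ProjectiveSpecialLinearGroup (Fin 2) F) := by
  classical
  have hdeg : 3 < Nat.card Ω := by rwa [Nat.card_eq_fintype_card]
  have hdvd' : 3 ∣ Nat.card Ω := by rwa [Nat.card_eq_fintype_card]
  have hH2 := two_trans_of_normal h3 hdvd' hdeg H hH
  obtain ⟨a, b, hab⟩ := Fintype.exists_pair_of_one_lt_card (show 1 < Fintype.card Ω by omega)
  obtain ⟨N, hNn, hN0, hNH, hNmin⟩ := exists_minimal_le H hH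
  haveI := hNn
  by_cases htr : ∀ c d : Ω, c ≠ a → c ≠ b → d ≠ a → d ≠ b → Joined H a b c d
  · left
    refine Perm.isMultiplyPretransitive_three_of_stabilizer hH2 a b hab fun x z h1 h2 h3' h4 => ?_
    obtain ⟨g, hg, hga, hgb, hgc⟩ := htr x z h1 h2 h3' h4
    exact ⟨⟨g, hg⟩, hga, hgb, hgc⟩
  right
  rcases Nat.even_or_odd (Fintype.card Ω) with hev | hodd
  swap
  · -- odd degree: Wagner
    exfalso
    apply htr
    let φ := MulAction.toPermHom G Ω
    have hinj : Function.Injective φ := MulAction.toPerm_injective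
    have hW := Perm.wagner_triply_transitive φ.range (H.map φ) hodd
      (by rw [Nat.odd_iff] at hodd; omega)
      ⟨fun x y => by
        obtain ⟨g, hg⟩ := h3.exists_smul_eq x y
        exact ⟨⟨φ g, g, rfl⟩, hg⟩⟩
      (Subgroup.map_le_range _ _) (by rwa [Ne, Subgroup.map_eq_bot_iff_of_injective _ hinj]) (by
        rintro _ ⟨g, rfl⟩ _ ⟨m, hm, rfl⟩
        exact ⟨g * m * g⁻¹, Subgroup.Normal.conj_mem inferInstance m hm g, by simp⟩)
    intro c d hca hcb hda hdb
    obtain ⟨⟨_, g, hg, rfl⟩, h1, h2, h3'⟩ := Perm.exists_smul_triple hW hab hca.symm hcb.symm hab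
      hda.symm hdb.symm
    exact ⟨g, hg, h1, h2, h3'⟩
  have hfour : Nat.card Ω % 4 = 0 := by
    rw [Nat.card_eq_fintype_card]
    rw [Nat.even_iff] at hev
    omega
  have hne : ∀ c : Ω, c ≠ a → c ≠ b → ∃ d : Ω, d ≠ a ∧ d ≠ b ∧ ¬ Joined N a b c d := by
    intro c hca hcb
    by_contra hcon
    push Not at hcon
    exact htr fun x y hxa hxb hya hyb =>
      ((hcon x hxa hxb).symm.trans (hcon y hya hyb)).mono hNH
  obtain ⟨F, iF, iFt, hF, ⟨e⟩⟩ := psl_of_two_orbits h3 hdvd' hdeg hfour hab N hN0 hNmin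
    (twoOrb h3 hdvd hcard N hN0 hab) hne
  refine ⟨N.subgroupOf H, F, iF, iFt, inferInstance, by rw [hF, Nat.card_eq_fintype_card],
    ⟨(Subgroup.subgroupOfEquivOfLe hNH).trans e⟩⟩

end Cfsg.Agent.TriplyNormal
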