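import Cfsg.Agent.Lib.TriplyNormal.Irreducible
import Cfsg.Agent.Lib.Perm.Wagner

/-!
A non-trivial normal subgroup of a triply transitive group of degree divisible by three has at most
two orbits on the points outside a pair in its two-point stabiliser.

* `twoOrb_perm`
-/

set_option autoImplicit false
set_option linter.style.haveILetI false
set_option linter.unusedSectionVars false

namespace Cfsg.Agent.TriplyNormal

open MulAction
open scoped Pointwise

universe u

/-- Sylow step for a prime `q`. -/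
theorem exists_conj_max {A : Type*} [Group A] [Finite A] {q : ℕ} [Fact q.Prime] {K P Q : Subgroup A}
    (hP : IsPGroup q P) (hQ : IsPGroup q Q) (hPK : P ≤ K) (hQK : Q ≤ K)
    (hPQ : Nat.card Q = Nat.card P)
    (hmax : ∀ R : Subgroup A, IsPGroup q R → R ≤ K → Nat.card R ≤ Nat.card P) :
    ∃ k ∈ K, Q.map (MulAut.conj k).toMonoidHom = P := by
  have hsyl : ∀ R : Subgroup A, IsPGroup q R → R ≤ K → Nat.card R = Nat.card P →
      ∃ S : Sylow q K, (S : Subgroup K).map K.subtype = R := by
    intro R hR hRK hcard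
    obtain ⟨S, hS⟩ := (hR.comap_subtype (K := K)).exists_le_sylow
    refine ⟨S, ?_⟩
    have hle : R ≤ (S : Subgroup K).map K.subtype := fun r hr =>
      ⟨⟨r, hRK hr⟩, hS (Subgroup.mem_subgroupOf.mpr hr), rfl⟩
    refine (Subgroup.eq_of_le_of_card_ge hle ?_).symm
    rw [hcard]
    exact hmax _ (S.2.map K.subtype) (Subgroup.map_subtype_le _)
  obtain ⟨S, hS⟩ := hsyl P hP hPK rfl
  obtain ⟨T, hT⟩ := hsyl Q hQ hQK hPQ
  obtain ⟨k, hk⟩ := MulAction.exists_smul_eq K T S
  refine ⟨k, k.2, ?_⟩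
  rw [← hS, ← hT, ← hk, Sylow.coe_subgroup_smul, Subgroup.map_map]
  show _ = Subgroup.map K.subtype ((T : Subgroup K).map (MulAut.conj k).toMonoidHom)
  rw [Subgroup.map_map]
  rfl

/-- At most two orbits. -/
theorem twoOrb_perm {α : Type u} [Fintype α] [DecidableEq α]
    (G N : Subgroup (Equiv.Perm α)) (hdvd : 3 ∣ Fintype.card α) (hcard : 3 < Fintype.card α)
    (h3 : IsMultiplyPretransitive G α 3) (hNG : N ≤ G) (hN : N ≠ ⊥)
    (hnorm : ∀ g ∈ G, ∀ x ∈ N, g * x * g⁻¹ ∈ N) {a b : α} (hab : a ≠ b) : TwoOrb N a b := by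
  induction hn : Fintype.card α using Nat.strong_induction_on generalizing α with
  | _ n ih =>
    rcases Nat.even_or_odd (Fintype.card α) with hev | hodd
    swap
    · have hW := Perm.wagner_triply_transitive G N hodd (by rw [Nat.odd_iff] at hodd; omega) h3 hNG hN hnorm
      refine twoOrb_of_transitive fun c d hca hcb hda hdb => ?_
      obtain ⟨⟨g, hg⟩, h1, h2, h3'⟩ := Perm.exists_smul_triple hW hab hca.symm hcb.symm hab hda.symm
        hdb.symm
      exact ⟨g, hg, h1, h2, h3'⟩
    have hdeg : 3 < Nat.card α := by rwa [Nat.card_eq_fintype_card]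
    have hdvd' : 3 ∣ Nat.card α := by rwa [Nat.card_eq_fintype_card]
    -- a minimal normal subgroup
    haveI : (N.subgroupOf G).Normal :=
      ⟨fun x hx g => Subgroup.mem_subgroupOf.mpr (hnorm g g.2 x (Subgroup.mem_subgroupOf.mp hx))⟩
    have hNne : N.subgroupOf G ≠ ⊥ := by
      rw [ne_eq, Subgroup.subgroupOf_eq_bot, disjoint_iff, inf_eq_left.mpr hNG]
      exact hN
    obtain ⟨N₀, hN₀n, hN₀0, hN₀le, hN₀min⟩ := exists_minimal_le (N.subgroupOf G) hNne
    haveI := hN₀n
    let M := N₀.map G.subtype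
    have hMN : M ≤ N := by
      rintro _ ⟨x, hx, rfl⟩
      exact hN₀le hx
    refine TwoOrb.mono hMN ?_
    have hMG : M ≤ G := Subgroup.map_subtype_le _
    have hMnorm : ∀ g ∈ G, ∀ x ∈ M, g * x * g⁻¹ ∈ M := by
      rintro g hg _ ⟨x, hx, rfl⟩
      exact ⟨⟨g, hg⟩ * x * ⟨g, hg⟩⁻¹, hN₀n.conj_mem x hx _, rfl⟩
    have hN2' := two_trans_of_normal h3 hdvd' hdeg N₀ hN₀0
    have hM2 : IsMultiplyPretransitive M α 2 := ⟨fun x y => by
      obtain ⟨g, hg⟩ := hN2'.exists_smul_eq x y
      exact ⟨⟨((g : G) : Equiv.Perm α), ⟨g, g.2, rfl⟩⟩, hg⟩⟩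
    set X := M ⊓ stabilizer (Equiv.Perm α) a ⊓ stabilizer (Equiv.Perm α) b with hX
    have hXmem : ∀ g, g ∈ X ↔ g ∈ M ∧ g • a = a ∧ g • b = b := fun g => by
      simp only [X, Subgroup.mem_inf, mem_stabilizer_iff, and_assoc]
    by_cases h3X : 3 ∣ Nat.card X
    swap
    · have hcardX : Nat.card ↥(N₀ ⊓ stabilizer G a ⊓ stabilizer G b) = Nat.card X :=
        Nat.card_congr
          { toFun := fun g => ⟨((g : G) : Equiv.Perm α), (hXmem _).2 ⟨⟨g, g.2.1.1, rfl⟩, g.2.1.2, g.2.2⟩⟩
            invFun := fun g => ⟨⟨g, hMG ((hXmem _).1 g.2).1⟩, ⟨by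
              obtain ⟨x, hx, hxg⟩ := ((hXmem _).1 g.2).1
              exact (Subtype.ext hxg : x = ⟨g, hMG ((hXmem _).1 g.2).1⟩) ▸ hx,
              ((hXmem _).1 g.2).2.1⟩, ((hXmem _).1 g.2).2.2⟩
            left_inv := fun _ => rfl
            right_inv := fun _ => rfl }
      have h := twoOrb_of_three_prime h3 hdvd' hdeg (by rwa [Nat.card_eq_fintype_card]) hab N₀ hN₀0
        hN₀min (by rw [hcardX]; exact h3X)
      have hj : ∀ {c d : α}, Joined N₀ a b c d → Joined M a b c d := fun ⟨g, hg, h1, h2, h3'⟩ =>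
        ⟨(g : Equiv.Perm α), ⟨g, hg, rfl⟩, h1, h2, h3'⟩
      exact fun c d e hca hcb hda hdb hea heb =>
        (h c d e hca hcb hda hdb hea heb).imp hj (Or.imp hj hj)
    haveI : Fact (Nat.Prime 3) := ⟨Nat.prime_three⟩
    obtain ⟨P0⟩ : Nonempty (Sylow 3 X) := inferInstance
    let P : Subgroup (Equiv.Perm α) := (P0 : Subgroup X).map X.subtype
    have hPle : P ≤ X := Subgroup.map_subtype_le _
    have hP3 : IsPGroup 3 P := P0.2.map _
    have hPne : P ≠ ⊥ := by
      rw [ne_eq, Subgroup.map_eq_bot_iff_of_injective _ X.subtype_injective]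
      exact P0.ne_bot_of_dvd_card h3X
    -- maximality of `P` among 3-subgroups of two-point stabilisers in `M`
    have hbound : ∀ (R : Subgroup (Equiv.Perm α)) (x y : α), x ≠ y → IsPGroup 3 R →
        R ≤ M ⊓ stabilizer (Equiv.Perm α) x ⊓ stabilizer (Equiv.Perm α) y →
        Nat.card R ≤ Nat.card P := by
      intro R x y hxy hR hle
      obtain ⟨k, hk⟩ := hR.exists_card_eq
      have hdvdR : Nat.card R ∣ Nat.card X := by
        rw [← card_two_point_eq hM2 hab hxy]
        exact Subgroup.card_dvd_of_le hle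
      have hPc : Nat.card P = Nat.card (P0 : Subgroup X) := (Nat.card_congr
        ((P0 : Subgroup X).equivMapOfInjective _ X.subtype_injective).toEquiv).symm
      rw [hk] at hdvdR ⊢
      rw [hPc, Sylow.card_eq_multiplicity]
      exact Nat.pow_le_pow_right (by norm_num)
        ((Nat.prime_three.pow_dvd_iff_le_factorization Nat.card_pos.ne').1 hdvdR)
    let G' := G ⊓ Subgroup.normalizer (P : Set (Equiv.Perm α))
    let F : SubMulAction G' α :=
      { carrier := {x | ∀ p ∈ P, p • x = x}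
        smul_mem' := fun g x hx p hp => by
          have hp' : (g : Equiv.Perm α)⁻¹ * p * (g : Equiv.Perm α) ∈ P :=
            (Subgroup.mem_normalizer_iff''.mp g.2.2 p).mp hp
          have := hx _ hp'
          rw [mul_smul, mul_smul, inv_smul_eq_iff] at this
          exact this }
    classical
    let : Fintype F := Fintype.ofFinite _
    have haF : a ∈ F := fun p hp => ((hXmem p).mp (hPle hp)).2.1
    have hbF : b ∈ F := fun p hp => ((hXmem p).mp (hPle hp)).2.2
    have hnormalizing : ∀ (g : Equiv.Perm α), g ∈ G → ∀ T : Finset α, 2 ≤ T.card →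
        (∀ x ∈ T, ∀ p ∈ P, p • x = x) → (∀ x ∈ T, ∀ p ∈ P, (g * p * g⁻¹) • x = x) →
        ∃ k ∈ M, (∀ x ∈ T, k • x = x) ∧ k * g ∈ Subgroup.normalizer (P : Set (Equiv.Perm α)) := by
      intro g hg T hT hPT hgT
      obtain ⟨x, hx, y, hy, hxy⟩ := Finset.one_lt_card.mp hT
      let K := M ⊓ fixingSubgroup (Equiv.Perm α) (T : Set α)
      have hK : ∀ k, k ∈ K ↔ k ∈ M ∧ ∀ x ∈ T, k • x = x := fun k => by
        simp [K, Subgroup.mem_inf, mem_fixingSubgroup_iff]
      let Q := P.map (MulAut.conj g).toMonoidHom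
      have hQK : Q ≤ K := by
        rintro _ ⟨p, hp, rfl⟩
        exact (hK _).mpr ⟨hMnorm g hg p ((hXmem p).mp (hPle hp)).1, fun z hz => hgT z hz p hp⟩
      have hmax : ∀ R : Subgroup (Equiv.Perm α), IsPGroup 3 R → R ≤ K → Nat.card R ≤ Nat.card P :=
        fun R hR hRK => hbound R x y hxy hR fun r hr =>
          ⟨⟨((hK r).mp (hRK hr)).1, ((hK r).mp (hRK hr)).2 x hx⟩, ((hK r).mp (hRK hr)).2 y hy⟩
      obtain ⟨k, hk, hkQ⟩ := exists_conj_max hP3 (hP3.map _)
        (fun p hp => (hK p).mpr ⟨((hXmem p).mp (hPle hp)).1, fun z hz => hPT z hz p hp⟩) hQK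
        (Nat.card_congr (P.equivMapOfInjective _ (MulEquiv.injective _)).toEquiv).symm hmax
      refine ⟨k, ((hK k).mp hk).1, ((hK k).mp hk).2, Subgroup.mem_normalizer_iff.mpr fun p => ?_⟩
      have heq : P.map (MulAut.conj (k * g)).toMonoidHom = P := by
        conv_rhs => rw [← hkQ, Subgroup.map_map]
        congr 1
      conv_rhs => rw [← heq]
      exact (Subgroup.mem_map_iff_mem
        (f := (MulAut.conj (k * g)).toMonoidHom) (MulEquiv.injective _)).symm
    have hkey : ∀ g : Equiv.Perm α, g ∈ G → ∀ T : Finset α, 2 ≤ T.card → (∀ x ∈ T, x ∈ F) →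
        (∀ x ∈ T, g⁻¹ • x ∈ F) → ∃ k ∈ M, (∀ x ∈ T, k • x = x) ∧ k * g ∈ G' := by
      intro g hg T hT hTF hgF
      obtain ⟨k, hkM, hkT, hkn⟩ := hnormalizing g hg T hT hTF fun x hx p hp => by
        rw [mul_smul, mul_smul, hgF x hx p hp, smul_inv_smul]
      exact ⟨k, hkM, hkT, mul_mem (hMG hkM) hg, hkn⟩
    have hF3 : 3 ∣ Fintype.card F := by
      have hm := hP3.card_modEq_card_fixedPoints α
      have h : Nat.card (fixedPoints P α) = Nat.card F :=
        Nat.card_congr (Equiv.subtypeEquivRight fun x =>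
          ⟨fun h p hp => h ⟨p, hp⟩, fun h p => h p p.2⟩)
      rw [h, Nat.card_eq_fintype_card, Nat.card_eq_fintype_card] at hm
      rw [Nat.ModEq] at hm
      omega
    have hF2 : 2 ≤ Fintype.card F := Fintype.one_lt_card_iff.2
      ⟨⟨a, haF⟩, ⟨b, hbF⟩, fun e => hab (congrArg Subtype.val e)⟩
    obtain ⟨⟨c₀, hc₀F⟩, hc₀a, hc₀b⟩ : ∃ c : F, c ≠ ⟨a, haF⟩ ∧ c ≠ ⟨b, hbF⟩ := by
      by_contra hcon
      push Not at hcon
      have : Fintype.card F ≤ ({⟨a, haF⟩, ⟨b, hbF⟩} : Finset F).card := Finset.card_le_card fun x _ => by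
        by_cases hx : x = ⟨a, haF⟩
        · simp [hx]
        · simp [hcon x hx]
      have h2 := Finset.card_le_two (a := (⟨a, haF⟩ : F)) (b := ⟨b, hbF⟩)
      omega
    have hc₀a' : c₀ ≠ a := fun e => hc₀a (Subtype.ext e)
    have hc₀b' : c₀ ≠ b := fun e => hc₀b (Subtype.ext e)
    have hrep : ∀ z, z ≠ a → z ≠ b → ∃ c : F, (c : α) ≠ a ∧ (c : α) ≠ b ∧ Joined M a b z c := by
      intro z hza hzb
      obtain ⟨⟨g, hg⟩, h1, h2, h3'⟩ := Perm.exists_smul_triple h3 hab hc₀a'.symm hc₀b'.symm hab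
        hza.symm hzb.symm
      rw [Subgroup.mk_smul] at h1 h2 h3'
      obtain ⟨k, hkM, hkT, hkG⟩ := hkey g hg {a, b} (by rw [Finset.card_pair hab])
        (by simp [haF, hbF]) (by
          intro x hx
          simp only [Finset.mem_insert, Finset.mem_singleton] at hx
          rcases hx with rfl | rfl
          · rw [inv_smul_eq_iff.mpr h1.symm]; exact haF
          · rw [inv_smul_eq_iff.mpr h2.symm]; exact hbF)
      have hka : k • a = a := hkT a (by simp)
      have hkb : k • b = b := hkT b (by simp)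
      have hkzF : k • z ∈ F := by
        have h := F.smul_mem (⟨k * g, hkG⟩ : G') hc₀F
        rwa [show (⟨k * g, hkG⟩ : G') • c₀ = (k * g) • c₀ from rfl, mul_smul, h3'] at h
      exact ⟨⟨k • z, hkzF⟩, fun e => hza (MulAction.injective k (e.trans hka.symm)),
        fun e => hzb (MulAction.injective k (e.trans hkb.symm)), k, hkM, hka, hkb, rfl⟩
    suffices hF : ∀ c d e : F, (c : α) ≠ a → (c : α) ≠ b → (d : α) ≠ a → (d : α) ≠ b → (e : α) ≠ a →
        (e : α) ≠ b → Joined M a b c d ∨ Joined M a b c e ∨ Joined M a b d e by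
      intro c d e hca hcb hda hdb hea heb
      obtain ⟨c', hc1, hc2, hc⟩ := hrep c hca hcb
      obtain ⟨d', hd1, hd2, hd⟩ := hrep d hda hdb
      obtain ⟨e', he1, he2, he⟩ := hrep e hea heb
      rcases hF c' d' e' hc1 hc2 hd1 hd2 he1 he2 with h | h | h
      · exact Or.inl ((hc.trans h).trans hd.symm)
      · exact Or.inr (Or.inl ((hc.trans h).trans he.symm))
      · exact Or.inr (Or.inr ((hd.trans h).trans he.symm))
    by_cases hsmall : Fintype.card F ≤ 3
    · intro c d e hca hcb hda hdb hea heb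
      left
      have hcd : c = d := by
        by_contra hne
        have hle : ({⟨a, haF⟩, ⟨b, hbF⟩, c, d} : Finset F).card ≤ 3 :=
          le_trans (Finset.card_le_univ _) hsmall
        rw [Finset.card_insert_of_notMem, Finset.card_insert_of_notMem, Finset.card_pair hne] at hle
        · omega
        · simp only [Finset.mem_insert, Finset.mem_singleton, not_or]
          exact ⟨fun h => hcb (congrArg Subtype.val h).symm, fun h => hdb (congrArg Subtype.val h).symm⟩
        · simp only [Finset.mem_insert, Finset.mem_singleton, not_or]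
          exact ⟨fun h => hab (congrArg Subtype.val h), fun h => hca (congrArg Subtype.val h).symm,
            fun h => hda (congrArg Subtype.val h).symm⟩
      rw [hcd]
      exact Joined.refl _ _ _ _
    let hom := MulAction.toPermHom G' F
    let L := hom.range
    let LM := (M.subgroupOf G').map hom
    have hL3 : IsMultiplyPretransitive L F 3 := by
      refine ⟨fun u v => ?_⟩
      have h01 : (0 : Fin 3) ≠ 1 := by decide
      have h02 : (0 : Fin 3) ≠ 2 := by decide
      have h12 : (1 : Fin 3) ≠ 2 := by decide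
      have hne : ∀ (w : Fin 3 ↪ F) {i j : Fin 3}, i ≠ j → (w i : α) ≠ w j := fun w i j hij e =>
        hij (w.injective (Subtype.ext e))
      obtain ⟨⟨g, hg⟩, h0, h1, h2⟩ := Perm.exists_smul_triple h3 (hne u h01) (hne u h02) (hne u h12)
        (hne v h01) (hne v h02) (hne v h12)
      rw [Subgroup.mk_smul] at h0 h1 h2
      obtain ⟨k, hkM, hkT, hkG⟩ := hkey g hg {(v 0 : α), (v 1 : α), (v 2 : α)}
        (by
          rw [Finset.card_insert_of_notMem (by simp [hne v h01, hne v h02]),
            Finset.card_pair (hne v h12)]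
          omega)
        (by
          intro x hx
          simp only [Finset.mem_insert, Finset.mem_singleton] at hx
          rcases hx with rfl | rfl | rfl <;> exact (v _).2)
        (by
          intro x hx
          simp only [Finset.mem_insert, Finset.mem_singleton] at hx
          rcases hx with rfl | rfl | rfl
          · rw [inv_smul_eq_iff.mpr h0.symm]; exact (u _).2
          · rw [inv_smul_eq_iff.mpr h1.symm]; exact (u _).2
          · rw [inv_smul_eq_iff.mpr h2.symm]; exact (u _).2)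
      refine ⟨⟨hom ⟨k * g, hkG⟩, _, rfl⟩, ?_⟩
      ext i
      show ((k * g : Equiv.Perm α) • (u i : α)) = v i
      rw [mul_smul]
      fin_cases i
      · exact (congrArg (k • ·) h0).trans (hkT _ (by simp))
      · exact (congrArg (k • ·) h1).trans (hkT _ (by simp))
      · exact (congrArg (k • ·) h2).trans (hkT _ (by simp))
    have hLMne : LM ≠ ⊥ := by
      intro h
      obtain ⟨⟨m, hm⟩, hma, hmb⟩ := is_two_pretransitive_iff.mp hM2 hab hab.symm
      rw [Subgroup.mk_smul] at hma hmb
      obtain ⟨k, hkM, hkT, hkG⟩ := hkey m (hMG hm) {a, b} (by rw [Finset.card_pair hab])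
        (by simp [haF, hbF]) (by
          intro x hx
          simp only [Finset.mem_insert, Finset.mem_singleton] at hx
          rcases hx with rfl | rfl
          · rw [inv_smul_eq_iff.mpr hmb.symm]; exact hbF
          · rw [inv_smul_eq_iff.mpr hma.symm]; exact haF)
      have hmem : hom ⟨k * m, hkG⟩ ∈ LM :=
        Subgroup.mem_map_of_mem _ (Subgroup.mem_subgroupOf.mpr (mul_mem hkM hm))
      rw [h, Subgroup.mem_bot] at hmem
      have : (k * m) • a = a :=
        congrArg Subtype.val (congrArg (fun σ : Equiv.Perm F => σ ⟨a, haF⟩) hmem)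
      rw [mul_smul, hma, hkT b (by simp)] at this
      exact hab this.symm
    have hFlt : Fintype.card F < n := by
      rw [← hn]
      obtain ⟨⟨p, hp⟩, hp1'⟩ := Subgroup.ne_bot_iff_exists_ne_one.mp hPne
      have hp1 : p ≠ 1 := fun e => hp1' (Subtype.ext e)
      obtain ⟨x, hx⟩ : ∃ x, p • x ≠ x := by
        by_contra h
        push Not at h
        exact hp1 (Equiv.ext h)
      refine Fintype.card_lt_of_injective_not_surjective (fun y : F => (y : α)) Subtype.val_injective ?_
      intro hs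
      obtain ⟨y, hy⟩ := hs x
      exact hx (hy ▸ y.2 p hp)
    have hIH := ih (Fintype.card F) hFlt L LM hF3 (by omega) hL3 (Subgroup.map_le_range _ _) hLMne (by
        rintro _ ⟨g, rfl⟩ _ ⟨m, hm, rfl⟩
        rw [← map_inv, ← map_mul, ← map_mul]
        exact Subgroup.mem_map_of_mem _ (Subgroup.mem_subgroupOf.mpr
          (hMnorm g g.2.1 m (Subgroup.mem_subgroupOf.mp hm))))
      (a := ⟨a, haF⟩) (b := ⟨b, hbF⟩) (fun e => hab (congrArg Subtype.val e)) rfl
    intro c d e hca hcb hda hdb hea heb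
    have hne : ∀ {x y : F}, (x : α) ≠ y → x ≠ y := fun h e => h (congrArg Subtype.val e)
    have hj : ∀ {x y : F}, Joined LM ⟨a, haF⟩ ⟨b, hbF⟩ x y → Joined M a b x y := by
      rintro x y ⟨_, ⟨m, hm, rfl⟩, h1, h2, h3'⟩
      exact ⟨((m : G') : Equiv.Perm α), Subgroup.mem_subgroupOf.mp hm, congrArg Subtype.val h1,
        congrArg Subtype.val h2, congrArg Subtype.val h3'⟩
    exact (hIH c d e (hne (x := c) (y := ⟨a, haF⟩) hca) (hne (x := c) (y := ⟨b, hbF⟩) hcb)
      (hne (x := d) (y := ⟨a, haF⟩) hda) (hne (x := d) (y := ⟨b, hbF⟩) hdb)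
      (hne (x := e) (y := ⟨a, haF⟩) hea) (hne (x := e) (y := ⟨b, hbF⟩) heb)).imp hj (Or.imp hj hj)

end Cfsg.Agent.TriplyNormal
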