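import Cfsg.Agent.Lib.TriplyNormal.Linear
import Cfsg.Agent.Lib.TriplyNormal.ElemTwo
import Cfsg.Agent.Lib.TriplyNormal.Factor
import Cfsg.Agent.Lib.Solvable.Fitting
import Cfsg.Agent.Lib.Cores.Fitting
import Cfsg.Agent.Lib.Goldschmidt.ThreePrime.SzFacts
import Cfsg.Agent.Lib.Goldschmidt.ThreePrime.Final
import Cfsg.Agent.Lib.Aschbacher.CriterionL2Final

/-!
In odd dimension, the normal subgroups of order prime to three of a linear group with an element
of primitive prime order are solvable.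

* `Ctx.exists_fitting` : the Fitting subgroup of a solvable normal subgroup
* `Ctx.isSolvable_of_three_prime`
-/

set_option autoImplicit false
set_option linter.style.haveILetI false
set_option linter.unusedSectionVars false

namespace Cfsg.Agent.TriplyNormal

open Module ThreePrime Subgroup
open scoped commutatorElement

universe u

variable {p : ℕ} [hp : Fact p.Prime] {V : Type*} [AddCommGroup V] [Module (ZMod p) V] [Finite V]
  {L : Type u} [Group L] [Finite L] {ρ : L →* Module.End (ZMod p) V} {e ℓ : ℕ}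

theorem isNilpotent_of_comm (N : Subgroup L) (h : ∀ x ∈ N, ∀ y ∈ N, x * y = y * x) :
    Group.IsNilpotent N := by
  letI : CommGroup N :=
    { (inferInstance : Group N) with mul_comm := fun x y => Subtype.ext (h x x.2 y y.2) }
  infer_instance

/-- A self-centralising normal subgroup of a solvable normal subgroup, centralised by every element
of primitive prime order. -/
theorem Ctx.exists_fitting (C : Ctx ρ e ℓ) (X : Subgroup L) [X.Normal] [Group.IsSolvable X] :
    ∃ F : Subgroup L, F.Normal ∧ F ≤ X ∧ (∀ a : L, orderOf a = ℓ → ∀ f ∈ F, Commute a f) ∧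
      ∀ x ∈ X, (∀ f ∈ F, x * f = f * x) → x ∈ F := by
  let F := (Cfsg.fittingSubgroup X).map X.subtype
  have hFn : F.Normal := ConjAct.normal_of_characteristic_of_normal
  have hFnil : Group.IsNilpotent F :=
    Group.nilpotent_of_mulEquiv
      ((Cfsg.fittingSubgroup X).equivMapOfInjective _ X.subtype_injective)
  refine ⟨F, hFn, Subgroup.map_subtype_le _, fun a ha => C.commute_of_nilpotent_normal ha F,
    fun x hx hc => ?_⟩
  have h : (⟨x, hx⟩ : X) ∈ Subgroup.centralizer (Cfsg.fittingSubgroup X : Set X) := by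
    rw [Subgroup.mem_centralizer_iff]
    intro f hf
    exact Subtype.ext (hc f ⟨f, hf, rfl⟩).symm
  exact ⟨⟨x, hx⟩, Solvable.centralizer_fitting_le X h, rfl⟩

/-- An odd prime divisor of the order of `Sz(q)` is at most `q + r + 1`. -/
theorem suzuki_prime_le {r m : ℕ} (hm : 1 ≤ m) (hr : r.Prime) (hr2 : r ≠ 2)
    (h : r ∣ (2 ^ (2 * m + 1)) ^ 2 * ((2 ^ (2 * m + 1)) ^ 2 + 1) * (2 ^ (2 * m + 1) - 1)) :
    r + 3 ≤ 2 * 2 ^ (2 * m + 1) := by
  set k := 2 ^ m with hk
  have hk2 : 2 ≤ k := by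
    calc 2 = 2 ^ 1 := rfl
      _ ≤ 2 ^ m := Nat.pow_le_pow_right (by omega) hm
  have hq : (2 : ℕ) ^ (2 * m + 1) = 2 * (k * k) := by rw [pow_succ, two_mul m, pow_add, hk]; ring
  rw [hq] at h ⊢
  have h4 : 2 * k ≤ k * k := Nat.mul_le_mul_right _ hk2
  rcases hr.dvd_mul.1 h with h | h
  · rcases hr.dvd_mul.1 h with h | h
    · have h2 : r ∣ 2 := by
        have hpow : (2 * (k * k)) ^ 2 = 2 ^ ((2 * m + 1) * 2) := by rw [← hq, ← pow_mul]
        rw [hpow] at h
        exact hr.dvd_of_dvd_pow h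
      exact absurd ((Nat.prime_dvd_prime_iff_eq hr Nat.prime_two).1 h2) hr2
    · have hfac : (2 * (k * k)) ^ 2 + 1 =
          (2 * (k * k) + 2 * k + 1) * (2 * (k * k) - 2 * k + 1) := by
        obtain ⟨d, hd⟩ := Nat.exists_eq_add_of_le (show 2 * k ≤ 2 * (k * k) by omega)
        have hk' : 2 * k * (2 * k) = 2 * (2 * (k * k)) := by ring
        rw [hd] at hk' ⊢
        rw [Nat.add_sub_cancel_left]
        nlinarith
      rw [hfac] at h
      rcases hr.dvd_mul.1 h with h | h <;> have := Nat.le_of_dvd (by omega) h <;> omega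
  · have := Nat.le_of_dvd (by omega) h
    omega

set_option maxHeartbeats 1000000 in
/-- The Suzuki groups are not involved. -/
theorem Ctx.isSolvable_of_three_prime (C : Ctx ρ e ℓ) (hl : ℓ ∣ Nat.card L)
    (X : Subgroup L) [hX : X.Normal] (h3 : ¬ 3 ∣ Nat.card X) : Group.IsSolvable X := by
  classical
  by_contra hns
  haveI := Fact.mk C.ppd.prime
  obtain ⟨a, ha⟩ := exists_prime_orderOf_dvd_card' (G := L) ℓ hl
  obtain ⟨K, ⟨hKn, hKX, hKs⟩, hmin⟩ := Set.exists_min_image
    {K : Subgroup L | K.Normal ∧ K ≤ X ∧ ¬ Group.IsSolvable K} (fun K => Nat.card K) (Set.toFinite _)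
    ⟨X, hX, le_rfl, hns⟩
  haveI := hKn
  have hsolv : ∀ P : Subgroup L, P.Normal → P ≤ K → P ≠ K → Group.IsSolvable P := by
    intro P hP hPK hne
    by_contra hPs
    exact hne (Subgroup.eq_of_le_of_card_ge hPK (hmin P ⟨hP, hPK.trans hKX, hPs⟩))
  have hperf : ⁅K, K⁆ = K := by
    by_contra hne
    have hle : ⁅K, K⁆ ≤ K := Subgroup.commutator_le_left K K
    haveI := hsolv _ inferInstance hle hne
    refine hKs (Group.isSolvable_of_ker_le_range (Subgroup.inclusion hle)
      (Abelianization.of : K →* Abelianization K) ?_)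
    rw [Abelianization.ker_of, commutator_def]
    intro x hx
    have hx' : (x : L) ∈ ⁅K, K⁆ := by
      have := Subgroup.mem_map_of_mem K.subtype hx
      rwa [Subgroup.map_commutator, ← MonoidHom.range_eq_map, Subgroup.range_subtype] at this
    exact ⟨⟨x, hx'⟩, rfl⟩
  -- solvable invariant proper subgroups are central
  have hcentral : ∀ P : Subgroup L, P.Normal → P ≤ K → P ≠ K → P ≤ Subgroup.centralizer (K : Set L) := by
    intro P hP hPK hne
    haveI := hsolv P hP hPK hne
    obtain ⟨F, hFn, hFP, hFa, hFc⟩ := C.exists_fitting P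
    have hab : ∀ f ∈ F, ∀ f' ∈ F, f * f' = f' * f := fun f hf f' hf' =>
      C.commute_centralized ha (hFa a ha f hf) (hFa a ha f' hf')
    haveI : IsCyclic F := C.isCyclic_of_centralized ha (hFa a ha)
    haveI := hFn
    -- automorphisms of a cyclic group commute
    have hKF : K ≤ Subgroup.centralizer (F : Set L) := by
      rw [← hperf]
      refine (Subgroup.commutator_mono le_top le_top).trans (Subgroup.commutator_le.2 fun x _ y _ => ?_)
      rw [Subgroup.mem_centralizer_iff]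
      intro f hf
      have hcomm : Commute (MulAut.conjNormal x : F ≃* F) (MulAut.conjNormal y) := by
        obtain ⟨g, hg⟩ := IsCyclic.exists_generator (α := F)
        have hpow : ∀ φ : F ≃* F, ∃ i : ℤ, ∀ z, φ z = z ^ i := fun φ => by
          obtain ⟨i, hi⟩ := Subgroup.mem_zpowers_iff.1 (hg (φ g))
          refine ⟨i, fun z => ?_⟩
          obtain ⟨j, rfl⟩ := Subgroup.mem_zpowers_iff.1 (hg z)
          rw [map_zpow, ← hi, ← zpow_mul, ← zpow_mul, mul_comm]
        obtain ⟨i, hi⟩ := hpow (MulAut.conjNormal x)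
        obtain ⟨j, hj⟩ := hpow (MulAut.conjNormal y)
        refine MulEquiv.ext fun z => ?_
        rw [MulAut.mul_apply, MulAut.mul_apply, hj, hi, hi, hj, ← zpow_mul, ← zpow_mul, mul_comm]
      have h1 : (MulAut.conjNormal ⁅x, y⁆ : F ≃* F) = 1 := by
        rw [map_commutatorElement, commutatorElement_eq_one_iff_commute.2 hcomm]
      have h2 := congrArg (fun φ : F ≃* F => ((φ ⟨f, hf⟩ : F) : L)) h1
      simp only [MulAut.conjNormal_apply, MulAut.one_apply] at h2
      exact (mul_inv_eq_iff_eq_mul.1 h2).symm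
    have hPF : P ≤ F := fun x hx => hFc x hx fun f hf =>
      (Subgroup.mem_centralizer_iff.1 (hKF (hPK hx)) f hf).symm
    intro x hx
    rw [Subgroup.mem_centralizer_iff]
    intro k hk
    exact (Subgroup.mem_centralizer_iff.1 (hKF hk) x (hPF hx)).symm
  let Z : Subgroup L := K ⊓ Subgroup.centralizer (K : Set L)
  have hZK : Z ≤ K := inf_le_left
  haveI hZn : Z.Normal := inferInstance
  have hZc : ∀ z ∈ Z, ∀ k ∈ K, k * z = z * k := fun z hz k hk =>
    Subgroup.mem_centralizer_iff.1 hz.2 k hk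
  haveI : Group.IsNilpotent Z := isNilpotent_of_comm Z fun x hx y hy => hZc y hy x hx.1
  have hZa : ∀ z ∈ Z, Commute a z := C.commute_of_nilpotent_normal ha Z
  have hZne : Z ≠ K := fun h => hKs (Group.isSolvable_of_comm fun x y => Subtype.ext
    (hZc y (h.symm ▸ y.2) x x.2))
  have hZinv : ∀ z ∈ Z, z * z = 1 → z = 1 := fun z hz h =>
    C.not_commutator_involution ha hperf hz.1 (hZa z hz) h
  let π := QuotientGroup.mk' Z
  have hπ : ∀ x : L, π x = 1 ↔ x ∈ Z := fun x => QuotientGroup.eq_one_iff x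
  haveI hKb : (K.map π).Normal := hKn.map _ (QuotientGroup.mk'_surjective Z)
  have hminb : ∀ N : Subgroup (L ⧸ Z), N.Normal → N ≤ K.map π → N = ⊥ ∨ N = K.map π := by
    intro N hN hle
    have hle' : N.comap π ≤ K := by
      refine (Subgroup.comap_mono hle).trans ?_
      rw [Subgroup.comap_map_eq, QuotientGroup.ker_mk']
      exact sup_le le_rfl hZK
    by_cases he : N.comap π = K
    · right
      rw [← he, Subgroup.map_comap_eq_self_of_surjective (QuotientGroup.mk'_surjective Z)]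
    · left
      have hc : N.comap π ≤ Z := le_inf hle' (hcentral _ (hN.comap _) hle' he)
      rw [← Subgroup.map_comap_eq_self_of_surjective (QuotientGroup.mk'_surjective Z) N, eq_bot_iff]
      rintro _ ⟨x, hx, rfl⟩
      exact Subgroup.mem_bot.2 ((hπ x).2 (hc hx))
  have hncb : ¬ IsMulCommutative ↥(K.map π) := by
    intro hab
    have hZ : ⁅K, K⁆ ≤ Z := by
      rw [Subgroup.commutator_le]
      intro x hx y hy
      rw [← hπ, map_commutatorElement, commutatorElement_eq_one_iff_mul_comm]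
      exact congrArg Subtype.val
        (hab.is_comm.comm ⟨_, Subgroup.mem_map_of_mem π hx⟩ ⟨_, Subgroup.mem_map_of_mem π hy⟩)
    rw [hperf] at hZ
    exact hZne (le_antisymm hZK hZ)
  obtain ⟨M, hMK, hMs, hMnc, hMr⟩ := exists_simple_factor (K.map π) hminb hncb
  haveI := hMs
  have hnc' : ∃ x y : M, x * y ≠ y * x := by
    by_contra hcon
    push Not at hcon
    exact hMnc ⟨⟨hcon⟩⟩
  have h3M : ¬ 3 ∣ Nat.card M := fun h => h3 (h.trans ((Subgroup.card_dvd_of_le hMK).trans
    ((Subgroup.card_dvd_of_surjective (π.subgroupMap K) (π.subgroupMap_surjective K)).trans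
      (Subgroup.card_dvd_of_le hKX))))
  have hSz : Cfsg.Lie.IsoSuzuki M :=
    Goldschmidt.ThreePrime.threePrimeClass_of_criterion Aschbacher.coreFreeCriterion M hnc' h3M
  obtain ⟨P, hP2, hPnc⟩ := ThreePrimeSimple.suzuki_sylow_not_comm hSz
  obtain ⟨F, _, _, m, hm, hF, ⟨eF⟩⟩ := hSz
  let eS : M ≃* Cfsg.Sz F m := eF.trans (Suzuki.lieEquiv (F := F) hm hF).symm
  have hfacts : Goldschmidt.ThreePrime.SzFacts M (2 ^ (2 * m + 1)) :=
    (Goldschmidt.ThreePrime.szFacts_sz hm hF).congr eS.symm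
  -- the Sylow 2-subgroups of `K` are not centralised by `a`
  haveI : Fact (Nat.Prime 2) := ⟨Nat.prime_two⟩
  obtain ⟨S⟩ : Nonempty (Sylow 2 K) := inferInstance
  let φ : K →* ↥(K.map π) := π.subgroupMap K
  have hSnc : ¬ ∀ x ∈ (S : Subgroup K), ∀ y ∈ (S : Subgroup K), x * y = y * x := by
    intro hcomm
    apply hPnc
    let S' : Sylow 2 ↥(K.map π) := S.mapSurjective (f := φ) (π.subgroupMap_surjective K)
    let ι : M →* ↥(K.map π) := Subgroup.inclusion hMK
    obtain ⟨S2, hS2⟩ := (hP2.map ι).exists_le_sylow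
    obtain ⟨k, hk⟩ := MulAction.exists_smul_eq ↥(K.map π) S' S2
    refine ⟨⟨fun x y => ?_⟩⟩
    have hmem : ∀ x : P, ∃ s ∈ (S : Subgroup K), ι (x : M) = k * φ s * k⁻¹ := by
      intro x
      have hx : ι (x : M) ∈ (S2 : Subgroup ↥(K.map π)) := hS2 ⟨x, x.2, rfl⟩
      rw [← hk, Sylow.coe_subgroup_smul] at hx
      obtain ⟨s', hs', he⟩ := hx
      obtain ⟨s, hs, rfl⟩ := hs'
      exact ⟨s, hs, he.symm⟩
    obtain ⟨s, hs, he⟩ := hmem x
    obtain ⟨s', hs', he'⟩ := hmem y
    refine Subtype.ext (Subgroup.inclusion_injective hMK ?_)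
    show ι ((x : M) * (y : M)) = ι ((y : M) * (x : M))
    rw [map_mul, map_mul, he, he']
    have : φ s * φ s' = φ s' * φ s := by rw [← map_mul, ← map_mul, hcomm s hs s' hs']
    calc k * φ s * k⁻¹ * (k * φ s' * k⁻¹) = k * (φ s * φ s') * k⁻¹ := by group
      _ = k * (φ s' * φ s) * k⁻¹ := by rw [this]
      _ = k * φ s' * k⁻¹ * (k * φ s * k⁻¹) := by group
  -- so `ℓ` divides `|K|`
  have hlK : ℓ ∣ Nat.card K := by
    by_contra hlK
    let N := Subgroup.normalizer (((S : Subgroup K).map K.subtype : Subgroup L) : Set L)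
    have hsurj : Function.Surjective ((QuotientGroup.mk' K).comp N.subtype) := by
      intro q
      obtain ⟨x, rfl⟩ := QuotientGroup.mk'_surjective K q
      have hx : x ∈ ((N ⊔ K : Subgroup L) : Set L) := by
        rw [Sylow.normalizer_sup_eq_top]; exact Subgroup.mem_top x
      rw [Subgroup.mul_normal] at hx
      obtain ⟨n, hn, k, hk, rfl⟩ := hx
      refine ⟨⟨n, hn⟩, ?_⟩
      show QuotientGroup.mk' K n = QuotientGroup.mk' K (n * k)
      rw [map_mul, show QuotientGroup.mk' K k = 1 from (QuotientGroup.eq_one_iff k).2 hk, mul_one]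
    have hlN : ℓ ∣ Nat.card N := by
      rw [Subgroup.card_eq_card_quotient_mul_card_subgroup K] at hl
      exact ((C.ppd.prime.dvd_mul.1 hl).resolve_right hlK).trans
        (Subgroup.card_dvd_of_surjective _ hsurj)
    obtain ⟨b, hb⟩ := exists_prime_orderOf_dvd_card' (G := N) ℓ hlN
    have hb' : orderOf (b : L) = ℓ := by rw [Subgroup.orderOf_coe, hb]
    have hcb := C.commute_of_normalizes hb' Nat.prime_two _ (S.2.map K.subtype) b.2
    exact hSnc fun x hx y hy => Subtype.ext
      (C.commute_centralized hb' (hcb _ ⟨x, hx, rfl⟩) (hcb _ ⟨y, hy, rfl⟩))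
  have hlZ : ¬ ℓ ∣ Nat.card Z := by
    intro h
    obtain ⟨z, hz⟩ := exists_prime_orderOf_dvd_card' (G := Z) ℓ h
    have hz' : orderOf (z : L) = ℓ := by rw [Subgroup.orderOf_coe, hz]
    exact hKs (Group.isSolvable_of_comm fun x y => Subtype.ext
      (C.commute_centralized hz' (hZc z z.2 x x.2).symm (hZc z z.2 y y.2).symm))
  have hlb : ℓ ∣ Nat.card ↥(K.map π) := by
    rw [← Subgroup.card_mul_index ((π.subgroupMap K).ker),
      Subgroup.index_ker, MonoidHom.range_eq_top.2 (π.subgroupMap_surjective K),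
      Subgroup.card_top] at hlK
    refine (C.ppd.prime.dvd_mul.1 hlK).resolve_left fun h => hlZ ?_
    refine h.trans (Subgroup.card_dvd_of_injective
      { toFun := fun x => ⟨((x : K) : L), (hπ _).1 (congrArg Subtype.val x.2)⟩
        map_one' := rfl
        map_mul' := fun _ _ => rfl } fun x y h => Subtype.ext (Subtype.ext ?_))
    exact congrArg (fun z : Z => (z : L)) h
  have hlM := hMr ℓ C.ppd.prime hlb
  rw [Nat.card_congr eS.toEquiv, Suzuki.card_sz hm hF] at hlM
  have hbound := suzuki_prime_le hm C.ppd.prime (fun h => C.not_fermat 0 (by rw [h]; rfl)) hlM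
  have hle := C.lt_prime
  -- the lower bound on the dimension
  obtain ⟨Q⟩ : Nonempty (Sylow 2 M) := inferInstance
  let Cz : Subgroup M := Goldschmidt.ThreePrime.centre (Q : Subgroup M)
  let Cb : Subgroup (L ⧸ Z) := Cz.map M.subtype
  have hCz2 : ∀ x ∈ Cz, x * x = 1 := fun x hx => (hfacts.omega Q x hx.1).2 hx
  have hliftc : ∀ x ∈ K, ∀ y ∈ K, π x ∈ Cb → π y ∈ Cb → x * x = 1 → x * y = y * x := by
    intro x hx y hy hxC hyC hx2
    have hc : π x * π y = π y * π x := by
      obtain ⟨u, hu, hux⟩ := hxC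
      obtain ⟨v, hv, hvy⟩ := hyC
      rw [← hux, ← hvy, ← map_mul, ← map_mul]
      exact congrArg _ (Subgroup.mem_centralizer_iff.1 hv.2 u hu.1)
    set c := x * y * x⁻¹ * y⁻¹ with hcdef
    have hcZ : c ∈ Z := by
      rw [← hπ, hcdef]
      simp only [map_mul, map_inv]
      rw [hc]
      group
    have hxy : x * y * x⁻¹ = c * y := by rw [hcdef]; group
    have hcx : x * c * x⁻¹ = c := by rw [hZc c hcZ x hx, mul_inv_cancel_right]
    have h2 : c * c * y = y := by
      have hxi : x⁻¹ = x := inv_eq_of_mul_eq_one_right hx2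
      calc c * c * y = x * c * x⁻¹ * (x * y * x⁻¹) := by rw [hcx, hxy, mul_assoc]
        _ = x * (c * y) * x⁻¹ := by group
        _ = x * (x * y * x⁻¹) * x⁻¹ := by rw [hxy]
        _ = (x * x) * y * (x⁻¹ * x⁻¹) := by group
        _ = y := by rw [hxi, hx2]; group
    have hc1 : c = 1 := hZinv c hcZ (mul_eq_right.1 h2)
    rw [hc1, one_mul] at hxy
    exact mul_inv_eq_iff_eq_mul.1 hxy
  let A : Subgroup L :=
    { carrier := {x | x ∈ K ∧ π x ∈ Cb ∧ x * x = 1}
      one_mem' := ⟨K.one_mem, by rw [map_one]; exact Cb.one_mem, one_mul 1⟩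
      mul_mem' := by
        rintro x y ⟨hx, hxC, hx2⟩ ⟨hy, hyC, hy2⟩
        refine ⟨K.mul_mem hx hy, by rw [map_mul]; exact Cb.mul_mem hxC hyC, ?_⟩
        rw [← mul_assoc, mul_assoc x y x, hliftc y hy x hx hyC hxC hy2, ← mul_assoc, hx2, one_mul,
          hy2]
      inv_mem' := by
        rintro x ⟨hx, hxC, hx2⟩
        rw [inv_eq_of_mul_eq_one_right hx2]
        exact ⟨hx, hxC, hx2⟩ }
  have hAinj : ∀ x ∈ A, ∀ y ∈ A, π x = π y → x = y := by
    intro x hx y hy h
    have h1 : x * y⁻¹ = 1 := by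
      refine hZinv _ ((hπ _).1 ?_) (mul_mem hx (inv_mem hy)).2.2
      rw [map_mul, map_inv, h, mul_inv_cancel]
    exact mul_inv_eq_one.1 h1
  have hAsurj : ∀ u ∈ Cz, ∃ x ∈ A, π x = (u : L ⧸ Z) := by
    intro u hu
    obtain ⟨x, hx, hxu⟩ := hMK u.2
    have hx2 : x * x ∈ Z := by
      rw [← hπ, map_mul, hxu, ← Subgroup.coe_mul, hCz2 u hu, Subgroup.coe_one]
    have hodd : Odd (Nat.card Z) := by
      by_contra heven
      rw [Nat.not_odd_iff_even] at heven
      obtain ⟨z, hz⟩ := exists_prime_orderOf_dvd_card' (G := Z) 2 heven.two_dvd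
      have h1 : (z : L) * z = 1 := by
        rw [← pow_two, ← hz, ← Subgroup.orderOf_coe, pow_orderOf_eq_one]
      have h2 : z = 1 := Subtype.ext (hZinv z z.2 h1)
      rw [h2, orderOf_one] at hz
      omega
    obtain ⟨k, hk⟩ := hodd
    set w := (⟨x * x, hx2⟩ : Z) ^ (k + 1) with hw
    have hw2 : (w : L) * w = x * x := by
      have h1 : w * w = (⟨x * x, hx2⟩ : Z) := by
        rw [hw, ← pow_add, show k + 1 + (k + 1) = Nat.card Z + 1 by omega, pow_succ, pow_card_eq_one',
          one_mul]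
      exact congrArg Subtype.val h1
    refine ⟨x * (w : L)⁻¹, ⟨K.mul_mem hx (K.inv_mem w.2.1), ?_, ?_⟩, ?_⟩
    · rw [map_mul, map_inv, (hπ _).2 w.2, inv_one, mul_one, hxu]
      exact ⟨u, hu, rfl⟩
    · have hcw : (w : L)⁻¹ * x = x * (w : L)⁻¹ :=
        ((hZc (w⁻¹ : Z) (w⁻¹).2 x hx) : x * _ = _).symm
      rw [mul_assoc, ← mul_assoc (w : L)⁻¹, hcw, mul_assoc x _ (w : L)⁻¹, ← mul_assoc,
        ← mul_inv_rev, hw2, mul_inv_cancel]
    · rw [map_mul, map_inv, (hπ _).2 w.2, inv_one, mul_one, hxu]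
  have hAcard : Nat.card A = 2 ^ (2 * m + 1) := by
    rw [← hfacts.card_centre Q,
      Nat.card_congr (Cz.equivMapOfInjective _ M.subtype_injective).toEquiv]
    refine Nat.card_eq_of_bijective (fun x : A => (⟨π x, x.2.2.1⟩ : Cb))
      ⟨fun x y h => Subtype.ext (hAinj x x.2 y y.2 (congrArg Subtype.val h)), ?_⟩
    rintro ⟨_, u, hu, rfl⟩
    obtain ⟨x, hx, hxu⟩ := hAsurj u hu
    exact ⟨⟨x, hx⟩, Subtype.ext hxu⟩
  have hdim : Nat.card A - 1 ≤ finrank (ZMod p) V := by
    refine card_sub_one_le_finrank C.ne_two ρ A (fun x hx => hx.2.2) ?_ ?_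
    · intro x hx y hy hx1 hy1
      obtain ⟨u, hu, hux⟩ := hx.2.1
      obtain ⟨v, hv, hvy⟩ := hy.2.1
      have hne : ∀ {z : L} {t : M}, z ∈ A → z ≠ 1 → (t : L ⧸ Z) = π z → t ≠ 1 := by
        intro z t hz hz1 htz h
        exact hz1 (hAinj z hz 1 A.one_mem (by rw [← htz, h, map_one]; rfl))
      obtain ⟨g₀, hg₀, -, htrans, -⟩ := hfacts.torus Q
      obtain ⟨k, hk⟩ := htrans u hu v hv (hne hx hx1 hux) (hne hy hy1 hvy)
      set g' := g₀ ^ k
      have hg' : g' ∈ Subgroup.normalizer ((Q : Subgroup M) : Set M) := pow_mem hg₀ k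
      obtain ⟨g, hgK, hgπ⟩ := hMK g'.2
      have hmem : ∀ c ∈ A, g * c * g⁻¹ ∈ A := by
        rintro c ⟨hc, ⟨t, ht, htc⟩, hc2⟩
        refine ⟨hKn.conj_mem c hc g, ⟨g' * t * g'⁻¹,
          ⟨(Subgroup.mem_normalizer_iff.1 hg' t).1 ht.1, ?_⟩, ?_⟩, ?_⟩
        · refine Subgroup.mem_centralizer_iff.2 fun s hs => ?_
          have hs' : g'⁻¹ * s * g' ∈ (Q : Subgroup M) :=
            (Subgroup.mem_normalizer_iff''.1 hg' s).1 hs
          have h := Subgroup.mem_centralizer_iff.1 ht.2 _ hs'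
          calc s * (g' * t * g'⁻¹) = g' * ((g'⁻¹ * s * g') * t) * g'⁻¹ := by group
            _ = g' * (t * (g'⁻¹ * s * g')) * g'⁻¹ := by rw [h]
            _ = g' * t * g'⁻¹ * s := by group
        · simp only [map_mul, map_inv, Subgroup.subtype_apply]
          rw [hgπ, show (t : L ⧸ Z) = π c from htc]
        · calc g * c * g⁻¹ * (g * c * g⁻¹) = g * (c * c) * g⁻¹ := by group
            _ = 1 := by rw [hc2]; group
      refine ⟨g, ?_, hmem⟩
      refine hAinj _ (hmem x hx) y hy ?_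
      rw [map_mul, map_mul, map_inv, hgπ, ← hvy, ← hux, ← hk]
      rfl
    · by_contra hcon
      push Not at hcon
      have h1 : Nat.card A ≤ 1 := Finite.card_le_one_iff_subsingleton.2
        ⟨fun x y => Subtype.ext (by
          rw [C.inj ((hcon x x.2).trans (map_one ρ).symm),
            C.inj ((hcon y y.2).trans (map_one ρ).symm)])⟩
      rw [hAcard] at h1
      have : 2 ≤ 2 ^ (2 * m + 1) := by
        calc 2 = 2 ^ 1 := rfl
          _ ≤ _ := Nat.pow_le_pow_right (by omega) (by omega)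
      omega
  rw [hAcard, C.finrank_eq] at hdim
  omega

end Cfsg.Agent.TriplyNormal
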